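import Groth.Agent.Lib.DegPoly.Charpoly
import Groth.Agent.Lib.Cube.MulFinite

/-!
# Degrees and Tate modules over any base field
-/

universe u

open CategoryTheory CategoryTheory.Limits MonoidalCategory CartesianMonoidalCategory AlgebraicGeometry
open scoped MonObj CategoryTheory.Obj
open AbDual GrothLib.AbTors

set_option backward.isDefEq.respectTransparency false

noncomputable section

namespace GrothLib.DegPoly

variable {K : Type u} [Field K] {Ω : Type u} [Field Ω]
  (σ : Spec (CommRingCat.of Ω) ⟶ Spec (CommRingCat.of K))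

/-- Base change along a field extension. -/
abbrev bc (A : Over (Spec (CommRingCat.of K))) : Over (Spec (CommRingCat.of Ω)) := (Over.pullback σ).obj A

/-- Base change of morphisms. -/
abbrev bcMap {A B : Over (Spec (CommRingCat.of K))} (f : A ⟶ B) : bc σ A ⟶ bc σ B := (Over.pullback σ).map f

/-- The tautological rational point of the base change of the base. -/
def sec : Over.mk (𝟙 (Spec (CommRingCat.of Ω))) ⟶ bc σ (Over.mk σ) :=
  Over.homMk (pullback.lift (𝟙 _) (𝟙 _) (by simp)) (pullback.lift_snd _ _ _)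

theorem bcMap_left_fst {A B : Over (Spec (CommRingCat.of K))} (f : A ⟶ B) :
    (bcMap σ f).left ≫ pullback.fst B.hom σ = pullback.fst A.hom σ ≫ f.left := pullback.lift_fst _ _ _

variable {A B : Over (Spec (CommRingCat.of K))} [GrpObj A] [GrpObj B]

/-- Geometric points are rational points of the base change. -/
def ptsEquiv : (Over.mk σ ⟶ A) ≃* (Over.mk (𝟙 (Spec (CommRingCat.of Ω))) ⟶ bc σ A) where
  toFun x := sec σ ≫ bcMap σ x
  invFun y := Over.homMk (y.left ≫ pullback.fst A.hom σ) (by
    rw [Category.assoc, pullback.condition, ← Category.assoc]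
    show (y.left ≫ (bc σ A).hom) ≫ σ = σ
    rw [Over.w y]
    exact Category.id_comp σ)
  left_inv x := Over.OverMorphism.ext (by
    show ((sec σ).left ≫ (bcMap σ x).left) ≫ pullback.fst A.hom σ = x.left
    rw [Category.assoc, bcMap_left_fst, ← Category.assoc]
    show (pullback.lift (𝟙 _) (𝟙 _) _ ≫ pullback.fst _ _) ≫ x.left = x.left
    rw [pullback.lift_fst]
    exact Category.id_comp _)
  right_inv y := Over.OverMorphism.ext (by
    refine pullback.hom_ext ?_ ?_
    · show ((sec σ).left ≫ (bcMap σ _).left) ≫ pullback.fst A.hom σ = _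
      rw [Category.assoc, bcMap_left_fst, ← Category.assoc]
      show (pullback.lift (𝟙 _) (𝟙 _) _ ≫ pullback.fst _ _) ≫ (y.left ≫ pullback.fst A.hom σ) = _
      rw [pullback.lift_fst]
      exact Category.id_comp _
    · exact (Over.w (sec σ ≫ bcMap σ _)).trans (Over.w y).symm)
  map_mul' x y := by
    rw [show bcMap σ (x * y) = bcMap σ x * bcMap σ y from map_mul (Functor.homMonoidHom (Over.pullback σ)) x y,
      MonObj.comp_mul]

theorem ptsEquiv_comp (x : Over.mk σ ⟶ A) (f : A ⟶ B) : ptsEquiv σ (x ≫ f) = ptsEquiv σ x ≫ bcMap σ f := by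
  show sec σ ≫ bcMap σ (x ≫ f) = (sec σ ≫ bcMap σ x) ≫ bcMap σ f
  rw [Category.assoc, ← Functor.map_comp]

variable [IsCommMonObj A] [IsCommMonObj B] [IsCommMonObj (bc σ A)] [IsCommMonObj (bc σ B)] (l : ℕ) [hl : Fact l.Prime]

/-- The Tate module of geometric points is that of the base change. -/
def tateEquiv : TateMod A l (Over.mk σ) ≃ₗ[ℤ_[l]] TateMod (bc σ A) l (Over.mk (𝟙 (Spec (CommRingCat.of Ω)))) where
  toFun z := ⟨fun n => (ptsEquiv σ (A := A)).toAdditive ((z : ℕ → Additive (Over.mk σ ⟶ A)) n),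
    ⟨fun n => by rw [← map_nsmul, z.torsion, map_zero], fun n => by rw [← map_nsmul, z.compat]⟩⟩
  invFun z := ⟨fun n => (ptsEquiv σ (A := A)).toAdditive.symm
      ((z : ℕ → Additive (Over.mk (𝟙 (Spec (CommRingCat.of Ω))) ⟶ bc σ A)) n),
    ⟨fun n => by rw [← map_nsmul, z.torsion, map_zero], fun n => by rw [← map_nsmul, z.compat]⟩⟩
  map_add' z z' := TateMod.ext fun n => map_add (ptsEquiv σ (A := A)).toAdditive _ _
  map_smul' a z := TateMod.ext fun n => by
    rw [RingHom.id_apply, smul_component]
    exact map_nsmul (ptsEquiv σ (A := A)).toAdditive _ _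
  left_inv z := TateMod.ext fun n => (ptsEquiv σ (A := A)).toAdditive.symm_apply_apply _
  right_inv z := TateMod.ext fun n => (ptsEquiv σ (A := A)).toAdditive.apply_symm_apply _

theorem tateEquiv_tateMap (f : A ⟶ B) [IsMonHom f] [IsMonHom (bcMap σ f)] (z : TateMod A l (Over.mk σ)) :
    tateEquiv σ l (A := B) (tateMapₗ (l := l) f z) = tateMapₗ (l := l) (bcMap σ f) (tateEquiv σ l (A := A) z) :=
  TateMod.ext fun _ => congrArg Additive.ofMul (ptsEquiv_comp σ _ f)

section Deg

omit [IsCommMonObj A] [IsCommMonObj B] [IsCommMonObj (bc σ A)] [IsCommMonObj (bc σ B)]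

omit [GrpObj A] [GrpObj B] in
theorem isPullback_bcMap (f : A ⟶ B) :
    IsPullback (pullback.fst A.hom σ) (bcMap σ f).left f.left (pullback.fst B.hom σ) := by
  refine IsPullback.of_bot ?_ (pullback.lift_fst _ _ _).symm (IsPullback.of_hasPullback B.hom σ)
  erw [pullback.lift_snd]
  rw [Over.w f]
  exact IsPullback.of_hasPullback A.hom σ

omit [GrpObj A] [GrpObj B] in
theorem isFinite_bcMap_iff (f : A ⟶ B) : IsFinite (bcMap σ f).left ↔ IsFinite f.left := by
  refine ⟨fun h => ?_, fun h => MorphismProperty.of_isPullback (isPullback_bcMap σ f) h⟩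
  haveI : Flat σ := flat_of_field (K := K) (Ω := Ω) σ
  haveI : Surjective σ := surjective_of_field (K := K) (Ω := Ω) σ
  haveI : QuasiCompact σ := inferInstance
  have hcov : GrothLib.EtSite.fpqcCov (pullback.fst B.hom σ) := ⟨⟨inferInstance, inferInstance⟩, inferInstance⟩
  exact MorphismProperty.of_isPullback_of_descendsAlong (P := @IsFinite) (Q := GrothLib.EtSite.fpqcCov)
    (isPullback_bcMap σ f).flip hcov h

end Deg

variable [IsAlgClosed Ω] [IsProper A.hom] [GeometricallyIntegral A.hom]

/-- The integral characteristic polynomial of an endomorphism, over any field. -/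
theorem exists_int_charpoly' {g : ℕ} (hA : topologicalKrullDim A.left = (g : WithBot ℕ∞)) (α : EndAV.End A) :
    ∃ P : Polynomial ℤ, P.Monic ∧ P.natDegree = 2 * g ∧
      (∀ n : ℤ, (IsFinite (α - (n : EndAV.End A)).toHom.left →
          ∀ a : A.left, (((α - (n : EndAV.End A)).toHom.left.finrank a : ℕ) : ℤ) = P.eval n) ∧
        (¬ IsFinite (α - (n : EndAV.End A)).toHom.left → P.eval n = 0)) ∧
      ∀ (m : ℕ) [Fact m.Prime], (m : K) ≠ 0 →
        ∀ [Module.Free ℤ_[m] (TateMod A m (Over.mk σ))] [Module.Finite ℤ_[m] (TateMod A m (Over.mk σ))],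
          (tateMapₗ (l := m) (T := Over.mk σ) α.toHom).charpoly = P.map (Int.castRingHom ℤ_[m]) := by
  haveI : IsProper (bc σ A).hom := inferInstanceAs (IsProper (pullback.snd A.hom σ))
  haveI : GeometricallyIntegral (bc σ A).hom := inferInstanceAs (GeometricallyIntegral (pullback.snd A.hom σ))
  haveI : IsMonHom (bcMap σ α.toHom) := inferInstance
  obtain ⟨g', hA'⟩ := exists_dim (bc σ A)
  have hchar : ∀ p : ℕ, (p : K) ≠ 0 → (p : Ω) ≠ 0 := fun p hp h => hp ((Spec.preimage σ).hom.injective (by
    rw [map_natCast, map_zero, h]))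
  have hg : g' = g := by
    obtain ⟨p, hp, hpK⟩ := HomFG.exists_prime_ne_zero K
    haveI := Fact.mk hp
    have h := (tateEquiv σ p (A := A)).finrank_eq
    rw [finrank_eq A σ p hpK hA, finrank_eq (bc σ A) (𝟙 _) p (hchar p hpK) hA'] at h
    omega
  rw [hg] at hA'
  obtain ⟨P, hm, hd, hv, hc⟩ := exists_int_charpoly hA' (EndAV.End.of (bcMap σ α.toHom))
  refine ⟨P, hm, hd, fun n => ?_, fun m _ hmK _ _ => ?_⟩
  · have e : ((EndAV.End.of (bcMap σ α.toHom)) - (n : EndAV.End (bc σ A))).toHom =
        bcMap σ (α - (n : EndAV.End A)).toHom := by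
      rw [EndAV.End.toHom_sub, EndAV.End.toHom_sub, EndAV.End.toHom_intCast, EndAV.End.toHom_intCast,
        EndAV.End.toHom_of]
      show _ = (Functor.homMonoidHom (Over.pullback σ)) (α.toHom / 𝟙 A ^ n)
      rw [map_div, map_zpow]
      exact congrArg (fun t => bcMap σ α.toHom / t ^ n) ((Over.pullback σ).map_id A).symm
    refine ⟨fun hf a => ?_, fun hf => ?_⟩
    · haveI := hf
      obtain ⟨a', ha'⟩ : ∃ a', pullback.fst A.hom σ a' = a := by
        haveI : Surjective σ := surjective_of_field (K := K) (Ω := Ω) σ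
        exact (pullback.fst A.hom σ).surjective a
      have hf' : IsFinite ((EndAV.End.of (bcMap σ α.toHom)) - (n : EndAV.End (bc σ A))).toHom.left := by
        rw [e]; exact (isFinite_bcMap_iff σ _).2 hf
      have h := hv n
      rw [dg_eq_of_isFinite hA' hf' a'] at h
      haveI : Flat (α - (n : EndAV.End A)).toHom.left := by
        haveI := surjective_of_finite hA hA (α - (n : EndAV.End A)).toHom
        haveI : IsIntegral A.left := GeometricallyIntegral.isIntegral_of_subsingleton A.hom
        exact GrothLib.GrpSchField.flat_hom _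
      have hpb := Scheme.Hom.finrank_of_isPullback _ _ _ _ (isPullback_bcMap σ (α - (n : EndAV.End A)).toHom) a'
      rw [← e] at hpb
      subst ha'
      refine (congrArg Nat.cast hpb.symm).trans ?_
      exact_mod_cast h
    · have h := hv n
      rw [dg_eq_zero (fun hf' => hf ((isFinite_bcMap_iff σ _).1 (e ▸ hf')))] at h
      exact_mod_cast h.symm
  · haveI : Module.Finite ℤ_[m] (TateMod (bc σ A) m (Over.mk (𝟙 (Spec (CommRingCat.of Ω))))) :=
      Module.Finite.equiv (tateEquiv σ m (A := A))
    haveI : Module.Free ℤ_[m] (TateMod (bc σ A) m (Over.mk (𝟙 (Spec (CommRingCat.of Ω))))) :=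
      Module.Free.of_equiv (tateEquiv σ m (A := A))
    rw [← hc m (hchar m hmK), ← LinearEquiv.charpoly_conj (tateEquiv σ m (A := A))]
    congr 1
    refine LinearMap.ext fun z => ?_
    rw [LinearEquiv.conj_apply]
    show tateEquiv σ m (tateMapₗ (l := m) α.toHom ((tateEquiv σ m (A := A)).symm z)) = _
    rw [tateEquiv_tateMap, LinearEquiv.apply_symm_apply]
    rfl

end GrothLib.DegPoly
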