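import Groth.Agent.Lib.GrpDeligne.Factor
import Groth.Agent.Lib.Hopf.OrderPrime

/-!
# The number of rational points of the kernel divides the degree
-/

universe u

open CategoryTheory Limits MonoidalCategory CartesianMonoidalCategory MonObj GrpObj AlgebraicGeometry
open scoped CategoryTheory.Obj

set_option backward.isDefEq.respectTransparency false

noncomputable section

namespace GrothLib.DegPoly

variable {K : Type u} [Field K] [IsAlgClosed K]

/-- Rational points of an affine scheme over `K` are algebra maps. -/
def algHomEquivPts (H : Type u) [CommRing H] [Algebra K H] :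
    (H →ₐ[K] K) ≃ (Over.mk (𝟙 (Spec (CommRingCat.of K))) ⟶
      (Spec (CommRingCat.of H)).asOver (Spec (CommRingCat.of K))) where
  toFun φ := Over.homMk (Spec.map (CommRingCat.ofHom φ.toRingHom)) (by
    show Spec.map _ ≫ Spec.map (CommRingCat.ofHom (algebraMap K H)) = 𝟙 _
    rw [← Spec.map_comp, ← Spec.map_id]
    congr 1
    ext x
    exact φ.commutes x)
  invFun s :=
    { (Spec.preimage (s.left : Spec (CommRingCat.of K) ⟶ Spec (CommRingCat.of H))).hom with
      commutes' := fun r => by
        have h : (s.left : Spec (CommRingCat.of K) ⟶ Spec (CommRingCat.of H)) ≫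
            Spec.map (CommRingCat.ofHom (algebraMap K H)) = 𝟙 (Spec (CommRingCat.of K)) := Over.w s
        generalize (s.left : Spec (CommRingCat.of K) ⟶ Spec (CommRingCat.of H)) = t at h ⊢
        rw [← Spec.map_preimage t, ← Spec.map_comp, ← Spec.map_id] at h
        exact congrArg (fun g : CommRingCat.of K ⟶ CommRingCat.of K => g.hom r) (Spec.map_injective h) }
  left_inv φ := AlgHom.ext fun x => by
    show (Spec.preimage (Spec.map (CommRingCat.ofHom φ.toRingHom))).hom x = _
    rw [Spec.preimage_map]
    rfl
  right_inv s := Over.OverMorphism.ext (Spec.map_preimage s.left)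

/-- The number of rational points of a finite commutative group divides its order. -/
theorem card_pts_dvd_of_finite (G : Over (Spec (CommRingCat.of K))) [GrpObj G] [IsFinite G.hom]
    (s : Spec (CommRingCat.of K)) :
    Nat.card (Over.mk (𝟙 (Spec (CommRingCat.of K))) ⟶ G) ∣ Scheme.Hom.finrank G.hom s := by
  have haff : IsAffine G.left := isAffine_of_isAffineHom G.hom
  obtain ⟨H', ⟨e⟩⟩ := (essImage_hopfSpec (R := CommRingCat.of K) (G := Grp.mk G)).2 haff
  obtain ⟨H, rfl⟩ : ∃ H, Opposite.op H = H' := ⟨H'.unop, rfl⟩
  let P : Over (Spec (CommRingCat.of K)) :=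
    (Spec (CommRingCat.of (H : Type u))).asOver (Spec (CommRingCat.of K))
  let i : P ≅ G := (Grp.forget _).mapIso e
  haveI : IsFinite (Spec.map (CommRingCat.ofHom (algebraMap K H))) := by
    have : IsFinite P.hom := by rw [← Over.w i.hom]; infer_instance
    exact this
  haveI : Module.Finite K H := RingHom.finite_algebraMap.1 ((IsFinite.SpecMap_iff _).1 ‹_›)
  have hrk : Scheme.Hom.finrank G.hom s = Module.finrank K (H : Type u) := by
    rw [← Scheme.Hom.finrank_comp_left_of_isIso i.hom.left G.hom, Over.w i.hom]
    show Scheme.Hom.finrank (Spec.map (CommRingCat.ofHom (algebraMap K H))) s = _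
    rw [Scheme.Hom.finrank_SpecMap_algebraMap, Module.rankAtStalk_eq_finrank_of_free]
    rfl
  rw [hrk, ← Nat.card_congr ((algHomEquivPts (K := K) (H : Type u)).trans
    { toFun := fun a => a ≫ i.hom, invFun := fun a => a ≫ i.inv,
      left_inv := fun a => by simp [P], right_inv := fun a => by simp [P] })]
  exact Hopf.OrderPrime.card_points_dvd

variable {A B : Over (Spec (CommRingCat.of K))} [GrpObj A] [GrpObj B]

/-- The number of rational points killed by a finite flat homomorphism divides its degree. -/
theorem card_ker_dvd (f : A ⟶ B) [IsMonHom f] [IsFinite f.left] [Flat f.left]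
    [LocallyOfFinitePresentation f.left] :
    Nat.card {a : Over.mk (𝟙 (Spec (CommRingCat.of K))) ⟶ A // a ≫ f = 1} ∣
      Scheme.Hom.finrank f.left (η[B].left (IsLocalRing.closedPoint K)) := by
  let N : Over (Spec (CommRingCat.of K)) := pullback f η[B]
  have hi : AlgGrp.IsKernel (pullback.fst f η[B]) f := by
    have := IsPullback.of_hasPullback f η[B]
    rwa [toUnit_unique (pullback.snd f η[B]) (toUnit _)] at this
  obtain ⟨_, hmon⟩ := GrpDeligne.exists_grpObj_kernel f _ hi
  have hpb : IsPullback (pullback.fst f η[B]).left N.hom f.left η[B].left := hi.map (Over.forget _)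
  haveI : IsFinite N.hom := MorphismProperty.of_isPullback hpb ‹_›
  have hrk := Scheme.Hom.finrank_of_isPullback _ _ _ _ hpb (IsLocalRing.closedPoint K)
  refine dvd_trans ?_ (dvd_of_eq hrk)
  haveI := GrpDeligne.mono_of_isKernel hi
  refine (dvd_of_eq (Nat.card_congr (Equiv.ofBijective
    (fun b : Over.mk (𝟙 (Spec (CommRingCat.of K))) ⟶ N => (⟨b ≫ pullback.fst f η[B], by
      rw [Category.assoc, GrpDeligne.ker_comp_eq_one hi, MonObj.comp_one]⟩ :
        {a : Over.mk (𝟙 (Spec (CommRingCat.of K))) ⟶ A // a ≫ f = 1}))
    ⟨fun b c h => (cancel_mono _).1 (congrArg Subtype.val h), fun a => ?_⟩)).symm).trans (card_pts_dvd_of_finite N _)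
  obtain ⟨b, hb⟩ := GrpDeligne.exists_lift_ker hi a.1 a.2
  exact ⟨b, Subtype.ext hb⟩

end GrothLib.DegPoly
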