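import Groth.Agent.Lib.DegPoly.Main
import Mathlib.Algebra.Polynomial.Monic

/-!
# The degree of a combination of two homomorphisms; the rational characteristic polynomial
-/

universe u

open CategoryTheory CategoryTheory.Limits MonoidalCategory CartesianMonoidalCategory AlgebraicGeometry
open scoped MonObj
open GrothLib.Snapper GrothLib.Cube

set_option backward.isDefEq.respectTransparency false

noncomputable section

namespace GrothLib.DegPoly

variable {K : Type u} [Field K] {A B : Over (Spec (CommRingCat.of K))} [GrpObj A] [GrpObj B]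
  [IsProper A.hom] [GeometricallyIntegral A.hom] [IsProper B.hom] [GeometricallyIntegral B.hom] {g : ℕ}

theorem isMonHom_prod_zpow [IsCommMonObj A] [IsCommMonObj B] {m : ℕ} (f : Fin m → (A ⟶ B)) [∀ i, IsMonHom (f i)] (a : Fin m → ℤ) :
    IsMonHom (∏ i, f i ^ a i) := by
  have h : IsMonHom (∑ i, a i • EndAV.Hom.of (f i)).toHom := inferInstance
  rw [HomFG.toHom_sum_zsmul (fun i => EndAV.Hom.of (f i)) a] at h
  exact h

/-- The degree of `α ^ m * β ^ n` is a homogeneous polynomial of degree `2g`. -/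
theorem exists_two (hA : topologicalKrullDim A.left = (g : WithBot ℕ∞))
    (hB : topologicalKrullDim B.left = (g : WithBot ℕ∞)) (α β : A ⟶ B) [IsMonHom α] [IsMonHom β] :
    ∃ P : MvPolynomial (Fin 2) ℚ, P.IsHomogeneous (2 * g) ∧
      ∀ m n : ℤ, (IsFinite (α ^ m * β ^ n).left →
          ∀ b : B.left, (Scheme.Hom.finrank (α ^ m * β ^ n).left b : ℚ) = MvPolynomial.eval ![(m : ℚ), (n : ℚ)] P) ∧
        (¬ IsFinite (α ^ m * β ^ n).left → MvPolynomial.eval ![(m : ℚ), (n : ℚ)] P = 0) := by
  haveI := GrothLib.Cube.isCommMonObj_abVar (A := B)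
  haveI := GrothLib.Cube.isCommMonObj_abVar (A := A)
  haveI : ∀ i, IsMonHom (![α, β] i) := fun i => by fin_cases i <;> assumption
  obtain ⟨P, hP, h⟩ := exists_degree_poly hA hB ![α, β] (isMonHom_prod_zpow ![α, β])
  refine ⟨P, hP, fun m n => ?_⟩
  have h' := h ![m, n]
  rw [Fin.prod_univ_two] at h'
  rw [show (fun i => ((![m, n] i : ℤ) : ℚ)) = ![(m : ℚ), (n : ℚ)] from _root_.funext fun i => by fin_cases i <;> rfl] at h'
  exact h'

theorem finrank_id (a : A.left) : (𝟙 A : A ⟶ A).left.finrank a = 1 := by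
  rw [Over.id_left]
  exact congrFun ((Scheme.Hom.isIso_iff_finrank_eq (𝟙 A.left)).1 inferInstance) a

/-- The characteristic polynomial of an endomorphism, with rational coefficients. -/
theorem exists_charpoly_rat (hA : topologicalKrullDim A.left = (g : WithBot ℕ∞)) (α : A ⟶ A) [IsMonHom α] :
    ∃ P : Polynomial ℚ, P.Monic ∧ P.natDegree = 2 * g ∧
      ∀ n : ℤ, (IsFinite (α * 𝟙 A ^ n).left → ∀ a : A.left, (Scheme.Hom.finrank (α * 𝟙 A ^ n).left a : ℚ) = P.eval (n : ℚ)) ∧
        (¬ IsFinite (α * 𝟙 A ^ n).left → P.eval (n : ℚ) = 0) := by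
  obtain ⟨R, hR, h⟩ := exists_two hA hA α (𝟙 A)
  let P : Polynomial ℚ := ∑ d ∈ R.support, Polynomial.C (R.coeff d) * Polynomial.X ^ d 1
  have hd : ∀ d ∈ R.support, d 0 + d 1 = 2 * g := fun d hd => by
    have := hR (MvPolynomial.mem_support_iff.1 hd)
    rw [Finsupp.weight_apply, Finsupp.sum_fintype _ _ (fun _ => by simp), Fin.sum_univ_two] at this
    simpa using this
  have hev : ∀ x : ℚ, P.eval x = MvPolynomial.eval ![1, x] R := fun x => by
    rw [MvPolynomial.eval_eq', Polynomial.eval_finsetSum]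
    simp [Fin.prod_univ_two]
  have hdeg : P.natDegree ≤ 2 * g := Polynomial.natDegree_sum_le_of_forall_le _ _ fun d hd' =>
    (Polynomial.natDegree_C_mul_X_pow_le _ _).trans (by have := hd d hd'; omega)
  have htop : P.coeff (2 * g) = MvPolynomial.eval ![0, 1] R := by
    rw [MvPolynomial.eval_eq', Polynomial.finsetSum_coeff]
    refine Finset.sum_congr rfl fun d hd' => ?_
    rw [Polynomial.coeff_C_mul_X_pow, Fin.prod_univ_two]
    have := hd d hd'
    rcases Nat.eq_zero_or_pos (d 0) with h0 | h0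
    · rw [if_pos (by omega), h0]; simp
    · rw [if_neg (by omega)]; simp [zero_pow h0.ne']
  have hone : MvPolynomial.eval ![(0 : ℚ), 1] R = 1 := by
    have h1 := (h 0 1).1
    rw [zpow_zero, _root_.one_mul, zpow_one] at h1
    haveI : IsIntegral A.left := GeometricallyIntegral.isIntegral_of_subsingleton A.hom
    have h2 := h1 (by rw [Over.id_left]; infer_instance) (genericPoint A.left)
    rw [finrank_id] at h2
    simpa using h2.symm
  rw [hone] at htop
  refine ⟨P, Polynomial.monic_of_natDegree_le_of_coeff_eq_one _ hdeg htop,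
    le_antisymm hdeg (Polynomial.le_natDegree_of_ne_zero (by rw [htop]; exact one_ne_zero)), fun n => ?_⟩
  have h' := h 1 n
  rw [zpow_one, Int.cast_one, ← hev] at h'
  exact h'

end GrothLib.DegPoly
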