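import Groth.Agent.Lib.DegPoly.Coker
import Groth.Agent.Lib.DegPoly.KerCount
import Groth.Agent.Lib.DegPoly.Two
import Groth.Agent.Lib.GrpDeligne.AbVar
import Groth.Agent.Lib.CycBasic.Push
import Groth.Prelude.Def_EndTate

/-!
# The `l`-adic valuation of the degree is that of the determinant of the Tate map
-/

universe u

open CategoryTheory CategoryTheory.Limits MonoidalCategory CartesianMonoidalCategory AlgebraicGeometry
open scoped MonObj

set_option backward.isDefEq.respectTransparency false

noncomputable section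

namespace GrothLib.DegPoly

open AbDual GrothLib.AbTors

section Any

variable {K : Type u} [Field K] {A B : Over (Spec (CommRingCat.of K))} [GrpObj A] [GrpObj B]
  [IsProper A.hom] [GeometricallyIntegral A.hom] [IsProper B.hom] [GeometricallyIntegral B.hom] {g : ℕ}
  (hA : topologicalKrullDim A.left = (g : WithBot ℕ∞)) (hB : topologicalKrullDim B.left = (g : WithBot ℕ∞))

include hA hB in
theorem surjective_of_finite (f : A ⟶ B) [IsFinite f.left] : Surjective f.left := by
  haveI : IsIntegral A.left := GeometricallyIntegral.isIntegral_of_subsingleton A.hom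
  haveI : IsIntegral B.left := GeometricallyIntegral.isIntegral_of_subsingleton B.hom
  obtain ⟨m, hm, hm'⟩ := GrothLib.Dim.dim_closure_range_eq f.left B.hom
  refine ⟨fun x => ?_⟩
  have h := GrothLib.Dim.eq_univ_of_dim_le isClosed_closure
    ((hB.trans (hA.symm.trans hm)).trans hm'.symm).le hm'
  rw [f.left.isClosedMap.isClosed_range.closure_eq] at h
  exact h.ge (Set.mem_univ x)

include hA hB in
theorem degree_comp_eq {f : A ⟶ B} [IsMonHom f] [IsFinite f.left] {h : B ⟶ A} [IsMonHom h] {n : ℕ} (hn : n ≠ 0)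
    (e : f ≫ h = (𝟙 A : A ⟶ A) ^ n) (b : B.left) (a : A.left) :
    IsFinite h.left ∧ f.left.finrank b * h.left.finrank a = n ^ (2 * g) := by
  haveI : IsIntegral A.left := GeometricallyIntegral.isIntegral_of_subsingleton A.hom
  haveI : IsIntegral B.left := GeometricallyIntegral.isIntegral_of_subsingleton B.hom
  haveI : IsCommMonObj A := Cube.isCommMonObj_abVar (A := A)
  haveI := surjective_of_finite hA hB f
  haveI : IsFinite ((𝟙 A : A ⟶ A) ^ n).left := Cube.isFinite_pow A hn
  haveI : IsMonHom ((𝟙 A : A ⟶ A) ^ n) := GrpDeligne.isMonHom_pow _ n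
  haveI : IsFinite (f.left ≫ h.left) := by rw [← Over.comp_left, e]; infer_instance
  have hgen : f.left (genericPoint A.left) = genericPoint B.left := by
    obtain ⟨z, hz⟩ := f.left.surjective (genericPoint B.left)
    have h1 : f.left (genericPoint A.left) ⤳ genericPoint B.left :=
      hz ▸ ((genericPoint_spec A.left).specializes trivial).map f.left.continuous
    exact (h1.antisymm ((genericPoint_spec B.left).specializes trivial)).eq
  haveI : IsProper h.left := by
    haveI : IsProper (h.left ≫ A.hom) := by rw [Over.w]; infer_instance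
    exact IsProper.of_comp h.left A.hom
  have hh : IsFinite h.left := by
    haveI : LocallyQuasiFinite h.left := .of_finite_preimage_singleton h.left fun y => by
      refine ((IsFinite.finite_preimage_singleton (f.left ≫ h.left) y).image f.left).subset fun x hx => ?_
      obtain ⟨z, rfl⟩ := f.left.surjective x
      exact ⟨z, hx, rfl⟩
    exact IsFinite.of_isProper_of_locallyQuasiFinite h.left
  refine ⟨hh, ?_⟩
  rw [finrank_eq_residueDegree hA hB f b, finrank_eq_residueDegree hB hA h a, ← hgen, mul_comm,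
    ← CycBasic.residueDegree_comp, ← finrank_pow A hA hn (genericPoint A.left),
    finrank_eq_residueDegree hA hA ((𝟙 A : A ⟶ A) ^ n), ← Over.comp_left, e]

section Tate

variable [IsCommMonObj A] [IsCommMonObj B] {Ω : Type u} [Field Ω] [IsAlgClosed Ω]
  (σ : Spec (CommRingCat.of Ω) ⟶ Spec (CommRingCat.of K)) (l : ℕ) [hl : Fact l.Prime]

theorem tateMap_comp {C : Over (Spec (CommRingCat.of K))} [GrpObj C] [IsCommMonObj C] (f : A ⟶ B) [IsMonHom f]
    (h : B ⟶ C) [IsMonHom h] (q : A ⟶ C) [IsMonHom q] (e : f ≫ h = q) :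
    (tateMapₗ (l := l) (T := Over.mk σ) h).comp (tateMapₗ (l := l) (T := Over.mk σ) f) =
      tateMapₗ (l := l) (T := Over.mk σ) q := by
  subst e
  exact LinearMap.ext fun x => TateMod.ext fun n =>
    congrArg Additive.ofMul (Category.assoc ((x : ℕ → Additive (Over.mk σ ⟶ A)) n).toMul f h)

theorem tateMap_pow (n : ℕ) [IsMonHom ((𝟙 A : A ⟶ A) ^ n)] :
    tateMapₗ (l := l) (T := Over.mk σ) ((𝟙 A : A ⟶ A) ^ n) =
      (n : ℤ_[l]) • (LinearMap.id : TateMod A l (Over.mk σ) →ₗ[ℤ_[l]] _) := by
  refine LinearMap.ext fun x => TateMod.ext fun i => ?_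
  rw [LinearMap.smul_apply, LinearMap.id_apply, natCast_smul_tate, component_nsmul, tateMap_apply_component,
    MonObj.comp_pow, Category.comp_id]
  rfl

end Tate

end Any

section Closed

variable {K : Type u} [Field K] [IsAlgClosed K] {A B : Over (Spec (CommRingCat.of K))} [GrpObj A] [GrpObj B]
  [IsProper A.hom] [GeometricallyIntegral A.hom] [IsProper B.hom] [GeometricallyIntegral B.hom]
  [IsCommMonObj A] [IsCommMonObj B] (l : ℕ) [hl : Fact l.Prime] {g : ℕ}
  (hA : topologicalKrullDim A.left = (g : WithBot ℕ∞)) (hB : topologicalKrullDim B.left = (g : WithBot ℕ∞))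
  {J : Type*} [Fintype J] [DecidableEq J]

include hA hB in
theorem pow_valuation_det_dvd (hlK : (l : K) ≠ 0) (f : A ⟶ B) [IsMonHom f] [IsFinite f.left]
    (bA : Module.Basis J ℤ_[l] (TateMod A l (Over.mk (𝟙 (Spec (CommRingCat.of K))))))
    (bB : Module.Basis J ℤ_[l] (TateMod B l (Over.mk (𝟙 (Spec (CommRingCat.of K)))))) (b : B.left) :
    l ^ ((LinearMap.toMatrix bA bB (tateMapₗ (l := l) f)).det).valuation ∣ f.left.finrank b := by
  haveI : IsIntegral B.left := GeometricallyIntegral.isIntegral_of_subsingleton B.hom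
  haveI : IsLocallyNoetherian B.left := LocallyOfFiniteType.isLocallyNoetherian B.hom
  haveI := surjective_of_finite hA hB f
  haveI : Flat f.left := GrothLib.GrpSchField.flat_hom f
  haveI : LocallyOfFinitePresentation f.left := inferInstance
  have hinj := injective_tateMap_of_isFinite (𝟙 (Spec (CommRingCat.of K))) l f
  have hcard := natCard_coker l bA bB _ hinj
  haveI : Finite (TateMod B l (Over.mk (𝟙 (Spec (CommRingCat.of K)))) ⧸ LinearMap.range
      (tateMapₗ (l := l) (T := Over.mk (𝟙 (Spec (CommRingCat.of K)))) f)) :=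
    Nat.finite_of_card_ne_zero (by rw [hcard]; exact pow_ne_zero _ hl.out.ne_zero)
  obtain ⟨e⟩ := exists_addEquiv_coker (𝟙 (Spec (CommRingCat.of K))) l f hlK
    (c := ((LinearMap.toMatrix bA bB (tateMapₗ (l := l) f)).det).valuation)
    (fun y => by rw [← hcard]; exact addOrderOf_dvd_iff_nsmul_eq_zero.1 (addOrderOf_dvd_natCard y))
  rw [← hcard, Nat.card_congr e.toEquiv]
  refine (AddSubgroup.card_addSubgroup_dvd_card _).trans ?_
  have h1 := card_ker_dvd f
  rw [finrank_eq_residueDegree hA hB f] at h1
  rw [finrank_eq_residueDegree hA hB f b]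
  refine (dvd_of_eq (Nat.card_congr ?_)).trans h1
  exact Equiv.subtypeEquiv Additive.toMul fun x => Iff.rfl

include hA hB in
/-- The valuation of the degree is the valuation of the determinant of the Tate map. -/
theorem padicValNat_degree (hlK : (l : K) ≠ 0) (f : A ⟶ B) [IsMonHom f] [IsFinite f.left]
    (bA : Module.Basis J ℤ_[l] (TateMod A l (Over.mk (𝟙 (Spec (CommRingCat.of K))))))
    (bB : Module.Basis J ℤ_[l] (TateMod B l (Over.mk (𝟙 (Spec (CommRingCat.of K)))))) (b : B.left) :
    padicValNat l (f.left.finrank b) =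
      ((LinearMap.toMatrix bA bB (tateMapₗ (l := l) f)).det).valuation := by
  haveI : IsIntegral A.left := GeometricallyIntegral.isIntegral_of_subsingleton A.hom
  haveI := surjective_of_finite hA hB f
  obtain ⟨n, h, hn, hh, e, -⟩ := GrpDeligne.exists_dual_hom_of_surjective A B f
  obtain ⟨hfin, hdeg⟩ := degree_comp_eq hA hB hn.ne' e b (genericPoint A.left)
  have h1 : f.left.finrank b ≠ 0 ∧ h.left.finrank (genericPoint A.left) ≠ 0 :=
    mul_ne_zero_iff.1 (hdeg.trans_ne (pow_ne_zero _ hn.ne'))
  have hf' := (padicValNat_dvd_iff_le h1.1).1 (pow_valuation_det_dvd l hA hB hlK f bA bB b)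
  have hh' := (padicValNat_dvd_iff_le h1.2).1 (pow_valuation_det_dvd l hB hA hlK h bB bA (genericPoint A.left))
  haveI : IsMonHom ((𝟙 A : A ⟶ A) ^ n) := GrpDeligne.isMonHom_pow _ n
  have hmat := congrArg (fun T => (LinearMap.toMatrix bA bA T).det)
    (tateMap_comp (𝟙 (Spec (CommRingCat.of K))) l f h ((𝟙 A : A ⟶ A) ^ n) e)
  simp only [LinearMap.toMatrix_comp bA bB bA, Matrix.det_mul, tateMap_pow, map_smul, LinearMap.toMatrix_id,
    Matrix.det_smul, Matrix.det_one, mul_one] at hmat
  have hcard : Fintype.card J = 2 * g := by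
    rw [← Module.finrank_eq_card_basis bA]
    exact finrank_eq A _ l hlK hA
  have hv := congrArg PadicInt.valuation hmat
  rw [PadicInt.valuation_mul (det_ne_zero_of_injective l bB bA _ (injective_tateMap_of_isFinite _ l h))
    (det_ne_zero_of_injective l bA bB _ (injective_tateMap_of_isFinite _ l f)), hcard] at hv
  have hp := congrArg (padicValNat l) hdeg
  rw [padicValNat.mul h1.1 h1.2] at hp
  have hlast : ((n : ℤ_[l]) ^ (2 * g)).valuation = padicValNat l (n ^ (2 * g)) := by
    rw [← Nat.cast_pow]
    have hcast : ∀ m : ℕ, ((m : ℤ_[l]).valuation : ℤ) = (padicValNat l m : ℤ) := fun m => by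
      rw [← PadicInt.valuation_coe, PadicInt.coe_natCast, Padic.valuation_natCast]
    exact_mod_cast hcast (n ^ (2 * g))
  omega

end Closed

end GrothLib.DegPoly
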