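import Groth.Agent.Lib.DegPoly.BaseChange

/-!
# Applications of the integral characteristic polynomial
-/

universe u

open CategoryTheory CategoryTheory.Limits MonoidalCategory CartesianMonoidalCategory AlgebraicGeometry
open scoped MonObj CategoryTheory.Obj
open AbDual GrothLib.AbTors Polynomial

set_option backward.isDefEq.respectTransparency false

noncomputable section

namespace GrothLib.DegPoly

section Linear

theorem det_aeval_eq_prod_roots {L : Type*} [Field L] [IsAlgClosed L] {J : Type*} [Fintype J] [DecidableEq J]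
    (M : Matrix J J L) (H : L[X]) : (aeval M H).det = (M.charpoly.roots.map fun w => H.eval w).prod := by
  have hcard : M.charpoly.roots.card = Fintype.card J := by
    rw [← (IsAlgClosed.splits M.charpoly).natDegree_eq_card_roots, M.charpoly_natDegree_eq_dim]
  let h1 : L[X] →* L := Matrix.detMonoidHom.comp (aeval M).toRingHom.toMonoidHom
  let h2 : L[X] →* L := {
    toFun := fun H => (M.charpoly.roots.map fun w => H.eval w).prod
    map_one' := by simp
    map_mul' := fun p q => by simp [Multiset.prod_map_mul] }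
  suffices h1 H = h2 H from this
  have hC : ∀ c : L, h1 (C c) = h2 (C c) := fun c => by
    show (aeval M (C c)).det = (M.charpoly.roots.map fun w => (C c).eval w).prod
    simp [Algebra.algebraMap_eq_smul_one, hcard]
  have hX : ∀ s : L, h1 (X - C s) = h2 (X - C s) := fun s => by
    show (aeval M (X - C s)).det = (M.charpoly.roots.map fun w => (X - C s).eval w).prod
    have e : M.charpoly.eval s = (M.charpoly.roots.map fun w => s - w).prod := by
      conv_lhs => rw [(IsAlgClosed.splits M.charpoly).eq_prod_roots_of_monic M.charpoly_monic]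
      simp [eval_multiset_prod, Multiset.map_map, Function.comp_def]
    rw [Matrix.eval_charpoly] at e
    rw [map_sub, aeval_X, aeval_C, ← neg_sub (algebraMap L (Matrix J J L) s) M, Matrix.det_neg,
      show (algebraMap L (Matrix J J L) s - M).det = (Matrix.scalar J s - M).det from rfl, e]
    refine Eq.trans ?_ (congrArg Multiset.prod (Multiset.map_congr (g := fun w => (X - C s).eval w)
      (f := fun w => -1 * (s - w)) rfl fun w _ => by simp))
    rw [Multiset.prod_map_mul, Multiset.map_const', Multiset.prod_replicate, hcard]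
  rw [(IsAlgClosed.splits H).eq_prod_roots, map_mul, map_mul, hC]
  congr 1
  induction H.roots using Multiset.induction with
  | empty => simp
  | cons a s ih => simp only [Multiset.map_cons, Multiset.prod_cons, map_mul, ih, hX]

theorem charpoly_aeval {L : Type*} [Field L] [IsAlgClosed L] {J : Type*} [Fintype J] [DecidableEq J]
    (M : Matrix J J L) (F : L[X]) :
    (aeval M F).charpoly = ((M.charpoly.roots.map fun w => F.eval w).map fun r => X - C r).prod := by
  refine Polynomial.funext fun x => ?_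
  rw [Matrix.eval_charpoly, eval_multiset_prod, Multiset.map_map, Multiset.map_map]
  have h := det_aeval_eq_prod_roots M (C x - F)
  rw [map_sub, aeval_C] at h
  refine Eq.trans h (congrArg Multiset.prod (Multiset.map_congr rfl fun w _ => ?_))
  simp

/-- Roots transformed by a polynomial, independent of the algebraically closed field. -/
theorem roots_eq_map_roots {L L' : Type*} [Field L] [CharZero L] [IsAlgClosed L] [Field L'] [CharZero L']
    [IsAlgClosed L'] {P Q : ℚ[X]} {F : ℤ[X]} (hQ : Q.Monic)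
    (h : Q.map (algebraMap ℚ L) = (((P.map (algebraMap ℚ L)).roots.map fun w => aeval w F).map fun r => X - C r).prod) :
    (Q.map (algebraMap ℚ L')).roots = (P.map (algebraMap ℚ L')).roots.map fun w => aeval w F := by
  let E := P.SplittingField
  let i : E →ₐ[ℚ] L := IsAlgClosed.lift
  let j : E →ₐ[ℚ] L' := IsAlgClosed.lift
  have hs : (P.map (algebraMap ℚ E)).Splits := SplittingField.splits P
  have key : Q.map (algebraMap ℚ E) =
      (((P.map (algebraMap ℚ E)).roots.map fun w => aeval w F).map fun r => X - C r).prod := by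
    refine Polynomial.map_injective i.toRingHom i.toRingHom.injective ?_
    rw [Polynomial.map_map, show i.toRingHom.comp (algebraMap ℚ E) = algebraMap ℚ L from i.comp_algebraMap, h,
      Polynomial.map_multiset_prod, Multiset.map_map, Multiset.map_map, Multiset.map_map,
      show P.map (algebraMap ℚ L) = (P.map (algebraMap ℚ E)).map i.toRingHom by
        rw [Polynomial.map_map, show i.toRingHom.comp (algebraMap ℚ E) = algebraMap ℚ L from i.comp_algebraMap],
      hs.roots_map, Multiset.map_map]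
    refine congrArg _ (Multiset.map_congr rfl fun w _ => ?_)
    simp only [Function.comp_apply, Polynomial.map_sub, map_X, map_C]
    exact congrArg (fun t => X - C t) (aeval_algHom_apply i.toRingHom.toIntAlgHom w F)
  rw [show Q.map (algebraMap ℚ L') = (Q.map (algebraMap ℚ E)).map j.toRingHom by
      rw [Polynomial.map_map, show j.toRingHom.comp (algebraMap ℚ E) = algebraMap ℚ L' from j.comp_algebraMap],
    show P.map (algebraMap ℚ L') = (P.map (algebraMap ℚ E)).map j.toRingHom by
      rw [Polynomial.map_map, show j.toRingHom.comp (algebraMap ℚ E) = algebraMap ℚ L' from j.comp_algebraMap],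
    hs.roots_map, key, Polynomial.map_multiset_prod]
  simp only [Multiset.map_map, Function.comp_def, Polynomial.map_sub, map_X, map_C]
  rw [show (fun x => X - C (j.toRingHom ((aeval x) F))) = (fun r => X - C r) ∘ (fun w => j.toRingHom (aeval w F)) from rfl,
    ← Multiset.map_map, roots_multiset_prod_X_sub_C]
  exact Multiset.map_congr rfl fun w _ => (aeval_algHom_apply j.toRingHom.toIntAlgHom w F).symm

end Linear

variable {K : Type u} [Field K] {A : Over (Spec (CommRingCat.of K))} [GrpObj A] [IsCommMonObj A]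
  [IsProper A.hom] [GeometricallyIntegral A.hom]

omit [IsProper A.hom] [GeometricallyIntegral A.hom] in
theorem toHom_sub_intCast (α : EndAV.End A) (n : ℤ) :
    (α - (n : EndAV.End A)).toHom = α.toHom * 𝟙 A ^ (-n) := by
  rw [EndAV.End.toHom_sub, EndAV.End.toHom_intCast, zpow_neg, div_eq_mul_inv]

/-- The integral characteristic polynomial of an endomorphism given as a morphism. -/
theorem exists_int_charpoly_hom {Ω : Type u} [Field Ω] [IsAlgClosed Ω]
    (σ : Spec (CommRingCat.of Ω) ⟶ Spec (CommRingCat.of K)) {g : ℕ}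
    (hA : topologicalKrullDim A.left = (g : WithBot ℕ∞)) (α : A ⟶ A) [IsMonHom α] :
    ∃ P : ℤ[X], P.Monic ∧ P.natDegree = 2 * g ∧
      (∀ n : ℤ, (IsFinite (α * 𝟙 A ^ (-n)).left →
          ∀ a : A.left, (((α * 𝟙 A ^ (-n)).left.finrank a : ℕ) : ℤ) = P.eval n) ∧
        (¬ IsFinite (α * 𝟙 A ^ (-n)).left → P.eval n = 0)) ∧
      ∀ (l : ℕ) [Fact l.Prime], (l : K) ≠ 0 →
        ∀ [Module.Free ℤ_[l] (TateMod A l (Over.mk σ))] [Module.Finite ℤ_[l] (TateMod A l (Over.mk σ))],
          (tateMapₗ (l := l) (T := Over.mk σ) α).charpoly = P.map (Int.castRingHom ℤ_[l]) := by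
  haveI : IsProper (bc σ A).hom := inferInstanceAs (IsProper (pullback.snd A.hom σ))
  haveI : GeometricallyIntegral (bc σ A).hom := inferInstanceAs (GeometricallyIntegral (pullback.snd A.hom σ))
  haveI : IsCommMonObj (bc σ A) := GrothLib.Cube.isCommMonObj_abVar (A := bc σ A)
  obtain ⟨P, hm, hd, hv, hc⟩ := exists_int_charpoly' σ hA (EndAV.End.of α)
  refine ⟨P, hm, hd, fun n => ?_, fun l _ hl _ _ => hc l hl⟩
  have e : (EndAV.End.of α - (n : EndAV.End A)).toHom = α * 𝟙 A ^ (-n) := toHom_sub_intCast _ n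
  rw [← e]
  exact hv n

omit [GeometricallyIntegral A.hom] in
/-- Two polynomials with the values of the degree agree. -/
theorem eval_eq_of_spec {R : Type*} [CommRing R] [GeometricallyIntegral A.hom] (β : A ⟶ A) (a b : R)
    (h1 : IsFinite β.left → ∀ x : A.left, ((β.left.finrank x : ℕ) : R) = a) (h1' : ¬ IsFinite β.left → a = 0)
    (h2 : IsFinite β.left → ∀ x : A.left, ((β.left.finrank x : ℕ) : R) = b) (h2' : ¬ IsFinite β.left → b = 0) :
    a = b := by
  haveI : IsIntegral A.left := GeometricallyIntegral.isIntegral_of_subsingleton A.hom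
  by_cases hf : IsFinite β.left
  · rw [← h1 hf (genericPoint A.left), h2 hf (genericPoint A.left)]
  · rw [h1' hf, h2' hf]

/-- A rational polynomial with the values of the degree is the integral one. -/
theorem eq_map_of_spec (α : A ⟶ A) {P : ℤ[X]}
    (hP : ∀ n : ℤ, (IsFinite (α * 𝟙 A ^ (-n)).left →
          ∀ a : A.left, (((α * 𝟙 A ^ (-n)).left.finrank a : ℕ) : ℤ) = P.eval n) ∧
        (¬ IsFinite (α * 𝟙 A ^ (-n)).left → P.eval n = 0))
    {P₀ : ℚ[X]} (hP₀ : ∀ n : ℤ, (IsFinite (α * 𝟙 A ^ (-n)).left →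
          ∀ a : A.left, (((α * 𝟙 A ^ (-n)).left.finrank a : ℕ) : ℚ) = P₀.eval (n : ℚ)) ∧
        (¬ IsFinite (α * 𝟙 A ^ (-n)).left → P₀.eval (n : ℚ) = 0)) :
    P₀ = P.map (Int.castRingHom ℚ) := by
  refine eq_of_eval_int fun n => ?_
  have e : (P.map (Int.castRingHom ℚ)).eval (n : ℚ) = ((P.eval n : ℤ) : ℚ) :=
    eval_intCast_map (Int.castRingHom ℚ) P n
  rw [e]
  refine eval_eq_of_spec (α * 𝟙 A ^ (-n)) _ _ (hP₀ n).1 (hP₀ n).2 (fun hf x => ?_) (fun hf => ?_)
  · exact_mod_cast (hP n).1 hf x
  · exact_mod_cast (hP n).2 hf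

/-- The characteristic polynomials of `β ∘ α` and `α ∘ β` have the same next coefficient. -/
theorem nextCoeff_comm [IsAlgClosed K] {B : Over (Spec (CommRingCat.of K))} [GrpObj B] [IsCommMonObj B]
    [IsProper B.hom] [GeometricallyIntegral B.hom] (α : A ⟶ B) [IsMonHom α] (β : B ⟶ A) [IsMonHom β] {P Q : ℚ[X]}
    (hP : ∀ n : ℤ, (IsFinite ((α ≫ β) * 𝟙 A ^ (-n)).left →
        ∀ a : A.left, (Scheme.Hom.finrank ((α ≫ β) * 𝟙 A ^ (-n)).left a : ℚ) = P.eval (n : ℚ)) ∧
      (¬ IsFinite ((α ≫ β) * 𝟙 A ^ (-n)).left → P.eval (n : ℚ) = 0))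
    (hQ : ∀ n : ℤ, (IsFinite ((β ≫ α) * 𝟙 B ^ (-n)).left →
        ∀ b : B.left, (Scheme.Hom.finrank ((β ≫ α) * 𝟙 B ^ (-n)).left b : ℚ) = Q.eval (n : ℚ)) ∧
      (¬ IsFinite ((β ≫ α) * 𝟙 B ^ (-n)).left → Q.eval (n : ℚ) = 0)) :
    P.nextCoeff = Q.nextCoeff := by
  obtain ⟨gA, hA⟩ := exists_dim A
  obtain ⟨gB, hB⟩ := exists_dim B
  let σ := 𝟙 (Spec (CommRingCat.of K))
  obtain ⟨P', hPm, -, hPv, hPc⟩ := exists_int_charpoly_hom σ hA (α ≫ β)
  obtain ⟨Q', hQm, -, hQv, hQc⟩ := exists_int_charpoly_hom σ hB (β ≫ α)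
  obtain ⟨l, hlp, hlK⟩ := HomFG.exists_prime_ne_zero K
  haveI := Fact.mk hlp
  haveI := module_finite A σ l hlK
  haveI := module_finite B σ l hlK
  haveI : Module.Free ℤ_[l] (TateMod A l (Over.mk σ)) := Module.free_of_finite_type_torsion_free'
  haveI : Module.Free ℤ_[l] (TateMod B l (Over.mk σ)) := Module.free_of_finite_type_torsion_free'
  let bA := Module.Free.chooseBasis ℤ_[l] (TateMod A l (Over.mk σ))
  let bB := Module.Free.chooseBasis ℤ_[l] (TateMod B l (Over.mk σ))
  let Mα := LinearMap.toMatrix bA bB (tateMapₗ (l := l) α)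
  let Mβ := LinearMap.toMatrix bB bA (tateMapₗ (l := l) β)
  have eP : (Mβ * Mα).charpoly = P'.map (Int.castRingHom ℤ_[l]) := by
    rw [← LinearMap.toMatrix_comp, tateMap_comp σ l α β _ rfl, LinearMap.charpoly_toMatrix]
    exact hPc l hlK
  have eQ : (Mα * Mβ).charpoly = Q'.map (Int.castRingHom ℤ_[l]) := by
    rw [← LinearMap.toMatrix_comp, tateMap_comp σ l β α _ rfl, LinearMap.charpoly_toMatrix]
    exact hQc l hlK
  have hn : ∀ (n : ℕ) (p : ℤ_[l][X]), p.Monic → (X ^ n * p).nextCoeff = p.nextCoeff := fun n p hp => by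
    rw [(monic_X_pow n).nextCoeff_mul hp, monic_X.nextCoeff_pow, show (X : ℤ_[l][X]).nextCoeff = 0 by simp [nextCoeff], nsmul_zero, zero_add]
  have key := congrArg Polynomial.nextCoeff (Matrix.charpoly_mul_comm' Mβ Mα)
  rw [hn _ _ (Matrix.charpoly_monic _), hn _ _ (Matrix.charpoly_monic _), eP, eQ,
    nextCoeff_map_of_leadingCoeff_ne_zero _ (by simp [hPm.leadingCoeff]),
    nextCoeff_map_of_leadingCoeff_ne_zero _ (by simp [hQm.leadingCoeff])] at key
  rw [eq_map_of_spec (α ≫ β) hPv hP, eq_map_of_spec (β ≫ α) hQv hQ,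
    nextCoeff_map_of_leadingCoeff_ne_zero _ (by simp [hPm.leadingCoeff]),
    nextCoeff_map_of_leadingCoeff_ne_zero _ (by simp [hQm.leadingCoeff])]
  exact congrArg _ (Int.cast_injective key : P'.nextCoeff = Q'.nextCoeff)

/-- The roots of the characteristic polynomial of `F(φ)`. -/
theorem roots_aeval [IsAlgClosed K] {g : ℕ} (hA : topologicalKrullDim A.left = (g : WithBot ℕ∞)) (φ : EndAV.End A)
    (F : ℤ[X]) {P Q : ℚ[X]}
    (hP : ∀ n : ℤ, (IsFinite (φ - (n : EndAV.End A)).toHom.left →
          ∀ a : A.left, (Scheme.Hom.finrank (φ - (n : EndAV.End A)).toHom.left a : ℚ) = P.eval (n : ℚ)) ∧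
        (¬ IsFinite (φ - (n : EndAV.End A)).toHom.left → P.eval (n : ℚ) = 0))
    (hQm : Q.Monic)
    (hQ : ∀ n : ℤ, (IsFinite (aeval φ F - (n : EndAV.End A)).toHom.left →
          ∀ a : A.left, (Scheme.Hom.finrank (aeval φ F - (n : EndAV.End A)).toHom.left a : ℚ) = Q.eval (n : ℚ)) ∧
        (¬ IsFinite (aeval φ F - (n : EndAV.End A)).toHom.left → Q.eval (n : ℚ) = 0)) :
    (Q.map (algebraMap ℚ ℂ)).roots = (P.map (algebraMap ℚ ℂ)).roots.map fun w => aeval w F := by
  obtain ⟨l, hlp, hlK⟩ := HomFG.exists_prime_ne_zero K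
  haveI := Fact.mk hlp
  let σ := 𝟙 (Spec (CommRingCat.of K))
  haveI := module_finite A σ l hlK
  haveI : Module.Free ℤ_[l] (TateMod A l (Over.mk σ)) := Module.free_of_finite_type_torsion_free'
  let b := Module.Free.chooseBasis ℤ_[l] (TateMod A l (Over.mk σ))
  let L := AlgebraicClosure ℚ_[l]
  let ψ : ℤ_[l] →+* L := (algebraMap ℚ_[l] L).comp PadicInt.Coe.ringHom
  have key : ∀ (β : EndAV.End A) (R : ℚ[X]), (∀ n : ℤ, (IsFinite (β - (n : EndAV.End A)).toHom.left →
        ∀ a : A.left, (Scheme.Hom.finrank (β - (n : EndAV.End A)).toHom.left a : ℚ) = R.eval (n : ℚ)) ∧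
      (¬ IsFinite (β - (n : EndAV.End A)).toHom.left → R.eval (n : ℚ) = 0)) →
      R.map (algebraMap ℚ L) = ((LinearMap.toMatrixAlgEquiv b (rep0 l β)).map ψ).charpoly := by
    intro β R hR
    obtain ⟨P', -, -, h3, h4⟩ := exists_int_charpoly_hom σ hA β.toHom
    rw [eq_map_of_spec β.toHom (P₀ := R) h3 (fun n => by rw [← toHom_sub_intCast]; exact hR n), Polynomial.map_map,
      Matrix.charpoly_map]
    rw [show (LinearMap.toMatrixAlgEquiv b (rep0 l β)).charpoly = P'.map (Int.castRingHom ℤ_[l]) from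
      (LinearMap.charpoly_toMatrix _ b).trans (h4 l hlK), Polynomial.map_map,
      Subsingleton.elim ((algebraMap ℚ L).comp (Int.castRingHom ℚ)) (ψ.comp (Int.castRingHom ℤ_[l]))]
  refine roots_eq_map_roots (L := L) hQm ?_
  rw [key _ Q hQ, key _ P hP, HomFG.map_aeval (A := A) σ l F φ]
  set M := LinearMap.toMatrixAlgEquiv b (rep0 l φ) with hM
  rw [show LinearMap.toMatrixAlgEquiv b (aeval (rep0 l φ) (F.map (Int.castRingHom ℤ_[l]))) =
    aeval M (F.map (Int.castRingHom ℤ_[l])) from
      (aeval_algHom_apply (LinearMap.toMatrixAlgEquiv b).toAlgHom _ _).symm]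
  letI : Algebra ℤ_[l] L := ψ.toAlgebra
  have e : (aeval M (F.map (Int.castRingHom ℤ_[l]))).map ψ = aeval (M.map ψ) (F.map (Int.castRingHom L)) := by
    rw [show F.map (Int.castRingHom L) = (F.map (Int.castRingHom ℤ_[l])).map (algebraMap ℤ_[l] L) by
      rw [Polynomial.map_map, Subsingleton.elim ((algebraMap ℤ_[l] L).comp (Int.castRingHom ℤ_[l])) (Int.castRingHom L)],
      aeval_map_algebraMap]
    exact (aeval_algHom_apply (Algebra.ofId ℤ_[l] L).mapMatrix M _).symm
  rw [e, charpoly_aeval]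
  refine congrArg _ (congrArg _ (Multiset.map_congr rfl fun w _ => ?_))
  rw [Polynomial.eval_map, ← algebraMap_int_eq, ← Polynomial.aeval_def]

end GrothLib.DegPoly
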