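import Groth.Agent.Lib.DegPoly.DetDegree

/-!
# The integral characteristic polynomial of an endomorphism
-/

universe u

open CategoryTheory CategoryTheory.Limits MonoidalCategory CartesianMonoidalCategory AlgebraicGeometry
open scoped MonObj
open Polynomial

set_option backward.isDefEq.respectTransparency false

noncomputable section

namespace GrothLib.DegPoly

open AbDual GrothLib.AbTors

theorem eq_of_eval_int {P Q : ℚ[X]} (h : ∀ n : ℤ, P.eval (n : ℚ) = Q.eval (n : ℚ)) : P = Q :=
  eq_of_infinite_eval_eq P Q ((Set.infinite_range_of_injective (Int.cast_injective (α := ℚ))).mono (by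
    rintro _ ⟨n, rfl⟩; exact h n))

variable {K : Type u} [Field K] [IsAlgClosed K] {A : Over (Spec (CommRingCat.of K))} [GrpObj A] [IsCommMonObj A]
  [IsProper A.hom] [GeometricallyIntegral A.hom] {g : ℕ} (hA : topologicalKrullDim A.left = (g : WithBot ℕ∞))

include hA in
/-- The characteristic polynomial has integer coefficients and is that of every Tate module. -/
theorem exists_int_charpoly (α : EndAV.End A) :
    ∃ P : ℤ[X], P.Monic ∧ P.natDegree = 2 * g ∧ (∀ n : ℤ, dg (α - (n : EndAV.End A)) = ((P.eval n : ℤ) : ℚ)) ∧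
      ∀ (l : ℕ) [Fact l.Prime], (l : K) ≠ 0 →
        ∀ [Module.Free ℤ_[l] (TateMod A l (Over.mk (𝟙 (Spec (CommRingCat.of K)))))]
          [Module.Finite ℤ_[l] (TateMod A l (Over.mk (𝟙 (Spec (CommRingCat.of K)))))],
          (rep0 l α).charpoly = P.map (Int.castRingHom ℤ_[l]) := by
  obtain ⟨P₀, hm₀, hd₀, hv₀⟩ := exists_charpoly_dg hA α
  obtain ⟨l, hlp, hlK⟩ := HomFG.exists_prime_ne_zero K
  haveI := Fact.mk hlp
  haveI := module_finite A (𝟙 (Spec (CommRingCat.of K))) l hlK
  haveI : Module.Free ℤ_[l] (TateMod A l (Over.mk (𝟙 (Spec (CommRingCat.of K))))) :=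
    Module.free_of_finite_type_torsion_free'
  let b := Module.Free.chooseBasis ℤ_[l] (TateMod A l (Over.mk (𝟙 (Spec (CommRingCat.of K)))))
  have hQ := charpoly_eq hA l hlK b α hm₀ hd₀ hv₀
  set M := LinearMap.toMatrixAlgEquiv b (rep0 l α) with hM
  haveI : Module.Finite ℤ (EndAV.End A) := HomFG.finite_hom (A := A) (B := A)
  have hint : IsIntegral ℤ α := Algebra.IsIntegral.isIntegral α
  set G := minpoly ℤ α with hG
  have hG0 : aeval M (G.map (Int.castRingHom ℤ_[l])) = 0 := by
    have h := congrArg (fun T => LinearMap.toMatrixAlgEquiv b T)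
      (HomFG.map_aeval (A := A) (𝟙 (Spec (CommRingCat.of K))) l G α)
    simp only [hG, minpoly.aeval, map_zero] at h
    rw [hM, hG, show ∀ p : ℤ_[l][X], aeval (LinearMap.toMatrixAlgEquiv b (rep0 l α)) p = LinearMap.toMatrixAlgEquiv b (aeval (rep0 l α) p) from
      fun p => aeval_algHom_apply (LinearMap.toMatrixAlgEquiv b).toAlgHom _ p]
    exact h.symm
  let L := AlgebraicClosure ℚ_[l]
  let ψ : ℤ_[l] →+* L := (algebraMap ℚ_[l] L).comp PadicInt.Coe.ringHom
  letI : Algebra ℤ_[l] L := ψ.toAlgebra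
  let M' : Matrix _ _ L := M.map ψ
  have hM'0 : aeval M' (G.map (Int.castRingHom L)) = 0 := by
    have h := congrArg (fun T : Matrix _ _ ℤ_[l] => ((Algebra.ofId ℤ_[l] L).mapMatrix T)) hG0
    simp only [map_zero] at h
    rw [← aeval_algHom_apply, show (Algebra.ofId ℤ_[l] L).mapMatrix M = M' from rfl] at h
    rw [show G.map (Int.castRingHom L) = (G.map (Int.castRingHom ℤ_[l])).map (algebraMap ℤ_[l] L) by
      rw [Polynomial.map_map, Subsingleton.elim ((algebraMap ℤ_[l] L).comp (Int.castRingHom ℤ_[l])) (Int.castRingHom L)],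
      aeval_map_algebraMap]
    exact h
  have hroot : ∀ r ∈ M'.charpoly.roots, (X - C r) ∣ G.map (Int.castRingHom L) := fun r hr => by
    rw [dvd_iff_isRoot]
    by_contra hne
    rcases isEmpty_or_nonempty (Module.Free.ChooseBasisIndex ℤ_[l]
      (TateMod A l (Over.mk (𝟙 (Spec (CommRingCat.of K)))))) with he | he
    · rw [Matrix.charpoly, Matrix.det_isEmpty] at hr
      simp at hr
    have hsp : r ∈ spectrum L M' := Matrix.mem_spectrum_iff_isRoot_charpoly.2 (isRoot_of_mem_roots hr)
    have h := spectrum.subset_polynomial_aeval M' (G.map (Int.castRingHom L)) ⟨r, hsp, rfl⟩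
    rw [hM'0, spectrum.zero_eq] at h
    exact hne h
  have hPL : P₀.map (algebraMap ℚ L) ∣ (G ^ M'.charpoly.roots.card).map (algebraMap ℤ L) := by
    have e : P₀.map (algebraMap ℚ L) = M'.charpoly := by
      rw [show algebraMap ℚ L = (algebraMap ℚ_[l] L).comp (algebraMap ℚ ℚ_[l]) from Subsingleton.elim _ _,
        ← Polynomial.map_map, hQ, Polynomial.map_map]
      exact (Matrix.charpoly_map M ψ).symm
    rw [e]
    conv_lhs => rw [(IsAlgClosed.splits M'.charpoly).eq_prod_roots_of_monic M'.charpoly_monic]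
    rw [Polynomial.map_pow, algebraMap_int_eq]
    refine (Multiset.prod_dvd_prod_of_dvd (S := M'.charpoly.roots) (fun a => X - C a)
      (fun _ => G.map (Int.castRingHom L)) hroot).trans ?_
    simp
  have hcoef : ∀ i, IsIntegral ℤ (P₀.coeff i) := fun i => by
    have h := Polynomial.isIntegral_coeff_of_dvd _ _ ((minpoly.monic hint).pow _) (hm₀.map _) hPL i
    rw [coeff_map] at h
    exact (isIntegral_algHom_iff ((algebraMap ℚ L).toIntAlgHom) (algebraMap ℚ L).injective).1 h
  have hlift : P₀ ∈ Polynomial.lifts (Int.castRingHom ℚ) := (lifts_iff_coeff_lifts _).2 fun i => by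
    obtain ⟨z, hz⟩ := IsIntegrallyClosed.isIntegral_iff.1 (hcoef i)
    exact ⟨z, by simpa using hz⟩
  obtain ⟨P, hP, hPd, hPm⟩ := lifts_and_natDegree_eq_and_monic hlift hm₀
  have hval : ∀ n : ℤ, dg (α - (n : EndAV.End A)) = ((P.eval n : ℤ) : ℚ) := fun n => by
    rw [hv₀, ← hP]
    exact Polynomial.eval_intCast_map (Int.castRingHom ℚ) P n
  refine ⟨P, hPm, hPd.trans hd₀, hval, fun l' _ hlK' _ _ => ?_⟩
  let b' := Module.Free.chooseBasis ℤ_[l'] (TateMod A l' (Over.mk (𝟙 (Spec (CommRingCat.of K)))))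
  have hQ' := charpoly_eq hA l' hlK' b' α hm₀ hd₀ hv₀
  rw [← LinearMap.charpoly_toMatrix _ b']
  refine Polynomial.map_injective (PadicInt.Coe.ringHom (p := l')) Subtype.val_injective ?_
  rw [Polynomial.map_map, ← hP, Polynomial.map_map] at *
  rw [show (PadicInt.Coe.ringHom (p := l')).comp (Int.castRingHom ℤ_[l']) =
    (algebraMap ℚ ℚ_[l']).comp (Int.castRingHom ℚ) from Subsingleton.elim _ _]
  exact hQ'.symm

include hA in
/-- The degree is the determinant on the Tate module. -/
theorem dg_eq_det (l : ℕ) [Fact l.Prime] (hlK : (l : K) ≠ 0) (β : EndAV.End A)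
    [Module.Free ℤ_[l] (TateMod A l (Over.mk (𝟙 (Spec (CommRingCat.of K)))))]
    [Module.Finite ℤ_[l] (TateMod A l (Over.mk (𝟙 (Spec (CommRingCat.of K)))))] :
    ∃ n : ℤ, dg β = (n : ℚ) ∧ LinearMap.det (rep0 l β) = (n : ℤ_[l]) := by
  obtain ⟨P, -, -, hv, hc⟩ := exists_int_charpoly hA β
  refine ⟨P.eval 0, by simpa using hv 0, ?_⟩
  rw [LinearMap.det_eq_sign_charpoly_coeff, hc l hlK, finrank_eq A _ l hlK hA, coeff_map,
    (even_two_mul g).neg_one_pow, _root_.one_mul, eq_intCast, coeff_zero_eq_eval_zero]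

/-- The degree at any point through the degree function. -/
theorem dg_spec (β : EndAV.End A) (c : ℚ) (h1 : IsFinite β.toHom.left → ∀ a : A.left, (β.toHom.left.finrank a : ℚ) = c)
    (h2 : ¬ IsFinite β.toHom.left → c = 0) : dg β = c := by
  haveI : IsIntegral A.left := GeometricallyIntegral.isIntegral_of_subsingleton A.hom
  obtain ⟨g, hA⟩ := exists_dim A
  by_cases hf : IsFinite β.toHom.left
  · rw [dg_eq_of_isFinite hA hf (genericPoint A.left), h1 hf]
  · rw [dg_eq_zero hf, h2 hf]

end GrothLib.DegPoly
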