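import Groth.Agent.Lib.DegPoly.DetCard
import Groth.Agent.Lib.AbTors.FiniteKer
import Groth.Agent.Lib.AbTors.Degree

/-!
# The cokernel of the Tate map of an isogeny is the primary part of the kernel
-/

universe u

open CategoryTheory CategoryTheory.Limits MonoidalCategory CartesianMonoidalCategory AlgebraicGeometry
open scoped MonObj

set_option backward.isDefEq.respectTransparency false

noncomputable section

namespace GrothLib.DegPoly

open AbDual GrothLib.AbTors

variable {K : Type u} [Field K] {A B : Over (Spec (CommRingCat.of K))} [GrpObj A] [IsCommMonObj A] [GrpObj B]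
  [IsCommMonObj B] {Ω : Type u} [Field Ω] [IsAlgClosed Ω] (σ : Spec (CommRingCat.of Ω) ⟶ Spec (CommRingCat.of K))

/-- The geometric points killed by a homomorphism. -/
def kerPts (f : A ⟶ B) [IsMonHom f] : AddSubgroup (Additive (Over.mk σ ⟶ A)) where
  carrier := {x | x.toMul ≫ f = 1}
  zero_mem' := MonObj.one_comp f
  add_mem' {a b} (ha : a.toMul ≫ f = 1) (hb : b.toMul ≫ f = 1) := by
    show (a.toMul * b.toMul) ≫ f = 1
    rw [MonObj.mul_comp, ha, hb, _root_.one_mul]
  neg_mem' {a} (ha : a.toMul ≫ f = 1) := by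
    show a.toMul⁻¹ ≫ f = 1
    rw [GrpObj.inv_comp, ha, inv_one]

theorem mem_kerPts {f : A ⟶ B} [IsMonHom f] {x : Additive (Over.mk σ ⟶ A)} :
    x ∈ kerPts σ f ↔ x.toMul ≫ f = 1 := Iff.rfl

instance instFiniteKerPts (f : A ⟶ B) [IsMonHom f] [IsFinite f.left] : Finite (kerPts σ f) :=
  haveI := (finite_ker_pts σ f).to_subtype
  Finite.of_injective (fun x : kerPts σ f => (⟨x.1.toMul, x.2⟩ : {a : Over.mk σ ⟶ A | a ≫ f = 1}))
    fun x y h => Subtype.ext (congrArg (fun z : {a : Over.mk σ ⟶ A | a ≫ f = 1} => Additive.ofMul z.1) h)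

variable [IsProper A.hom] [GeometricallyIntegral A.hom] [IsProper B.hom] [GeometricallyIntegral B.hom]
  (l : ℕ) [hl : Fact l.Prime] (f : A ⟶ B) [IsMonHom f] [IsFinite f.left]

/-- The primary part of the kernel is the cokernel of the Tate map. -/
theorem exists_addEquiv_coker (hlK : (l : K) ≠ 0) {c : ℕ}
    (hc : ∀ y : TateMod B l (Over.mk σ) ⧸ LinearMap.range (tateMapₗ (l := l) (T := Over.mk σ) f), (l ^ c) • y = 0) :
    Nonempty ((TateMod B l (Over.mk σ) ⧸ LinearMap.range (tateMapₗ (l := l) (T := Over.mk σ) f)) ≃+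
      AddCommGroup.primaryComponent (kerPts σ f) l) := by
  set T := tateMapₗ (l := l) (T := Over.mk σ) f with hT
  have hTinj : Function.Injective T := injective_tateMap_of_isFinite σ l f
  set n := c + Nat.card (kerPts σ f)
  have hc' : ∀ y : TateMod B l (Over.mk σ), (l ^ n) • y ∈ LinearMap.range T := fun y => by
    have h := hc (Submodule.Quotient.mk y)
    rw [← Submodule.Quotient.mk_smul, Submodule.Quotient.mk_eq_zero] at h
    rw [show l ^ n = l ^ (Nat.card (kerPts σ f)) * l ^ c by rw [← pow_add]; congr 1; omega, mul_nsmul']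
    exact nsmul_mem h _
  have hnil : ∀ v : TateMod B l (Over.mk σ), (l ^ n) • v = 0 → v = 0 := fun v hv => by
    rw [← natCast_smul_tate] at hv
    exact (smul_eq_zero.1 hv).resolve_left (by exact_mod_cast pow_ne_zero n hl.out.ne_zero)
  let S : AddSubgroup (TateMod A l (Over.mk σ)) :=
    (AddMonoidHom.range (nsmulAddMonoidHom (l ^ n) : TateMod B l (Over.mk σ) →+ _)).comap T.toAddMonoidHom
  have hS : ∀ z : S, ∃ w : TateMod B l (Over.mk σ), (l ^ n) • w = T z.1 := fun z => z.2
  choose w hw using hS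
  let Φ : S →+ TateMod B l (Over.mk σ) ⧸ LinearMap.range T := AddMonoidHom.mk'
    (fun z => Submodule.Quotient.mk (w z)) fun z z' => by
      rw [← Submodule.Quotient.mk_add]
      congr 1
      refine sub_eq_zero.1 (hnil _ ?_)
      rw [smul_sub, smul_add, hw, hw, hw, AddSubgroup.coe_add, map_add, sub_self]
  have hmem : ∀ z : S, TateMod.component A l (Over.mk σ) n z.1 ∈ kerPts σ f := fun z => by
    rw [mem_kerPts]
    have h := congrArg (fun v : TateMod B l (Over.mk σ) => ((v : ℕ → Additive (Over.mk σ ⟶ B)) n).toMul) (hw z)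
    rw [component_nsmul, (w z).torsion, hT, tateMap_apply_component] at h
    exact h.symm
  have hpr : ∀ z : S, (⟨_, hmem z⟩ : kerPts σ f) ∈ AddCommGroup.primaryComponent (kerPts σ f) l := fun z => by
    rw [AddCommGroup.mem_primaryComponent]
    exact ⟨n, Subtype.ext (z.1.torsion n)⟩
  let Ψ : S →+ AddCommGroup.primaryComponent (kerPts σ f) l := AddMonoidHom.mk'
    (fun z => ⟨⟨_, hmem z⟩, hpr z⟩) fun z z' => Subtype.ext (Subtype.ext (map_add (TateMod.component A l (Over.mk σ) n) z.1 z'.1))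
  have hΦ : Function.Surjective Φ := fun y => by
    obtain ⟨v, rfl⟩ := Submodule.Quotient.mk_surjective _ y
    obtain ⟨z, hz⟩ := hc' v
    refine ⟨⟨z, v, hz.symm⟩, ?_⟩
    show Submodule.Quotient.mk _ = _
    congr 1
    refine sub_eq_zero.1 (hnil _ ?_)
    rw [smul_sub, hw, hz, sub_self]
  have hΨ : Function.Surjective Ψ := by
    rintro ⟨⟨x, hx⟩, hx'⟩
    rw [AddCommGroup.mem_primaryComponent] at hx'
    obtain ⟨j, hj⟩ := hx'
    have hjn : (l ^ n) • (⟨x, hx⟩ : kerPts σ f) = 0 := by
      rcases Nat.lt_or_ge (Nat.card (kerPts σ f)) j with hlt | hge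
      · have hd : addOrderOf (⟨x, hx⟩ : kerPts σ f) ∣ l ^ j := addOrderOf_dvd_of_nsmul_eq_zero hj
        obtain ⟨i, hi, he⟩ := (Nat.dvd_prime_pow hl.out).1 hd
        have hic : l ^ i ≤ Nat.card (kerPts σ f) :=
          he ▸ Nat.le_of_dvd Nat.card_pos (addOrderOf_dvd_natCard _)
        have := (Nat.lt_pow_self hl.out.one_lt : i < l ^ i)
        exact addOrderOf_dvd_iff_nsmul_eq_zero.1 (he ▸ pow_dvd_pow l (by omega))
      · exact addOrderOf_dvd_iff_nsmul_eq_zero.1
          ((addOrderOf_dvd_of_nsmul_eq_zero hj).trans (pow_dvd_pow l (by omega)))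
    obtain ⟨z, hz⟩ := exists_component_eq A σ l hlK n (x := x) (congrArg Subtype.val hjn)
    have hzero : ((T z : TateMod B l (Over.mk σ)) : ℕ → Additive (Over.mk σ ⟶ B)) n = 0 := by
      rw [hT, tateMap_apply_component, hz]
      exact congrArg Additive.ofMul hx
    obtain ⟨v, hv⟩ := exists_eq_pow_smul B σ l (T z) hzero
    exact ⟨⟨z, v, hv.symm⟩, Subtype.ext (Subtype.ext hz)⟩
  have hker : Φ.ker = Ψ.ker := by
    ext z
    rw [AddMonoidHom.mem_ker, AddMonoidHom.mem_ker]
    change Submodule.Quotient.mk (w z) = 0 ↔ _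
    rw [Submodule.Quotient.mk_eq_zero]
    constructor
    · rintro ⟨v, hv⟩
      have : z.1 = (l ^ n) • v := hTinj (by rw [map_nsmul, hv, hw])
      refine Subtype.ext (Subtype.ext ?_)
      show TateMod.component A l (Over.mk σ) n z.1 = 0
      rw [this, map_nsmul]
      exact v.torsion n
    · intro h
      obtain ⟨v, hv⟩ := exists_eq_pow_smul A σ l z.1 (congrArg (fun t : AddCommGroup.primaryComponent (kerPts σ f) l => t.1.1) h)
      refine ⟨v, sub_eq_zero.1 (hnil _ ?_)⟩
      rw [smul_sub, ← map_nsmul, ← hv, hw, sub_self]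
  exact ⟨(QuotientAddGroup.quotientKerEquivOfSurjective Φ hΦ).symm.trans
    ((QuotientAddGroup.quotientAddEquivOfEq hker).trans (QuotientAddGroup.quotientKerEquivOfSurjective Ψ hΨ))⟩

end GrothLib.DegPoly
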