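import Groth.Agent.Lib.DegPoly.Valuation

/-!
# The cokernel of the Tate map through the points of the kernel scheme
-/

universe u

open CategoryTheory CategoryTheory.Limits MonoidalCategory CartesianMonoidalCategory AlgebraicGeometry
open scoped MonObj

set_option backward.isDefEq.respectTransparency false

noncomputable section

namespace GrothLib.DegPoly

open AbDual GrothLib.AbTors

variable {K : Type u} [Field K] {A B : Over (Spec (CommRingCat.of K))} [GrpObj A] [IsCommMonObj A] [GrpObj B]
  [IsCommMonObj B] [IsProper A.hom] [GeometricallyIntegral A.hom] [IsProper B.hom] [GeometricallyIntegral B.hom]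
  {Ω : Type u} [Field Ω] [IsAlgClosed Ω] (σ : Spec (CommRingCat.of Ω) ⟶ Spec (CommRingCat.of K))
  (l : ℕ) [hl : Fact l.Prime]

theorem tateMap_coker_kernel (hlK : (l : K) ≠ 0) (f : A ⟶ B) [IsMonHom f] [IsFinite f.left] [Surjective f.left]
    {N : Over (Spec (CommRingCat.of K))} [GrpObj N] [IsCommMonObj N] (i : N ⟶ A) [IsMonHom i]
    (hN : AlgGrp.IsKernel i f) :
    Function.Injective (tateMapₗ (l := l) (T := Over.mk σ) f) ∧
      Nonempty ((TateMod B l (Over.mk σ) ⧸ LinearMap.range (tateMapₗ (l := l) (T := Over.mk σ) f)) ≃+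
        Additive ↥(CommGroup.primaryComponent (Over.mk σ ⟶ N) l)) := by
  have hinj := injective_tateMap_of_isFinite σ l f
  haveI : IsIntegral A.left := GeometricallyIntegral.isIntegral_of_subsingleton A.hom
  obtain ⟨g, hA, hB'⟩ := GrothLib.Dim.dim_closure_range_eq f.left B.hom
  have hB : topologicalKrullDim B.left = (g : WithBot ℕ∞) := by
    rw [f.left.surjective.range_eq, closure_univ] at hB'
    rw [← IsHomeomorph.topologicalKrullDim_eq _ (Homeomorph.Set.univ B.left).isHomeomorph, hB']
  haveI := module_finite A σ l hlK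
  haveI := module_finite B σ l hlK
  haveI : Module.Free ℤ_[l] (TateMod A l (Over.mk σ)) := Module.free_of_finite_type_torsion_free'
  haveI : Module.Free ℤ_[l] (TateMod B l (Over.mk σ)) := Module.free_of_finite_type_torsion_free'
  let bA := (Module.finBasis ℤ_[l] (TateMod A l (Over.mk σ))).reindex (finCongr (finrank_eq A σ l hlK hA))
  let bB := (Module.finBasis ℤ_[l] (TateMod B l (Over.mk σ))).reindex (finCongr (finrank_eq B σ l hlK hB))
  have hcard := natCard_coker l bA bB _ hinj
  haveI : Finite (TateMod B l (Over.mk σ) ⧸ LinearMap.range (tateMapₗ (l := l) (T := Over.mk σ) f)) :=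
    Nat.finite_of_card_ne_zero (by rw [hcard]; exact pow_ne_zero _ hl.out.ne_zero)
  obtain ⟨e⟩ := exists_addEquiv_coker σ l f hlK
    (c := ((LinearMap.toMatrix bA bB (tateMapₗ (l := l) (T := Over.mk σ) f)).det).valuation)
    (fun y => by rw [← hcard]; exact addOrderOf_dvd_iff_nsmul_eq_zero.1 (addOrderOf_dvd_natCard y))
  haveI := GrpDeligne.mono_of_isKernel hN
  let ψ : Additive (Over.mk σ ⟶ N) ≃+ kerPts σ f := AddEquiv.ofBijective
    (AddMonoidHom.mk' (fun b : Additive (Over.mk σ ⟶ N) => (⟨Additive.ofMul (b.toMul ≫ i), by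
        show (b.toMul ≫ i) ≫ f = 1
        rw [Category.assoc, GrpDeligne.ker_comp_eq_one hN, MonObj.comp_one]⟩ : kerPts σ f))
      fun b c => Subtype.ext (congrArg Additive.ofMul (MonObj.mul_comp b.toMul c.toMul i)))
    ⟨fun b c h => Additive.toMul.injective ((cancel_mono i).1 (congrArg (fun t : kerPts σ f => t.1.toMul) h)),
      fun a => by
        obtain ⟨b, hb⟩ := GrpDeligne.exists_lift_ker hN a.1.toMul a.2
        exact ⟨Additive.ofMul b, Subtype.ext (congrArg Additive.ofMul hb)⟩⟩
  have hmem : ∀ x, x ∈ AddCommGroup.primaryComponent (kerPts σ f) l ↔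
      (ψ.symm x).toMul ∈ CommGroup.primaryComponent (Over.mk σ ⟶ N) l := fun x => by
    rw [AddCommGroup.mem_primaryComponent, CommGroup.mem_primaryComponent]
    refine exists_congr fun j => ?_
    rw [← toMul_nsmul, ← map_nsmul, toMul_eq_one, AddEquiv.map_eq_zero_iff]
  exact ⟨hinj, ⟨e.trans
    { toFun := fun x => Additive.ofMul ⟨(ψ.symm x.1).toMul, (hmem x.1).1 x.2⟩
      invFun := fun y => ⟨ψ (Additive.ofMul y.toMul.1), (hmem _).2 (by simp)⟩
      left_inv := fun x => Subtype.ext (by simp)
      right_inv := fun y => Additive.toMul.injective (Subtype.ext (by simp))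
      map_add' := fun x y => Additive.toMul.injective (Subtype.ext (by simp)) }⟩⟩

end GrothLib.DegPoly
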