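import Mathlib.LinearAlgebra.FreeModule.Finite.Quotient
import Mathlib.LinearAlgebra.Determinant
import Mathlib.NumberTheory.Padics.RingHoms

/-!
# The size of the cokernel of a `p`-adic matrix
-/

noncomputable section

namespace GrothLib.DegPoly

open Module

variable (l : ℕ) [hl : Fact l.Prime]

theorem natCard_quotient_span {a : ℤ_[l]} (ha : a ≠ 0) :
    Nat.card (ℤ_[l] ⧸ Ideal.span {a}) = l ^ a.valuation := by
  have hspan : Ideal.span {a} = RingHom.ker (PadicInt.toZModPow (p := l) a.valuation) := by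
    rw [PadicInt.ker_toZModPow, Ideal.span_singleton_eq_span_singleton]
    exact ⟨(PadicInt.unitCoeff ha)⁻¹, by
      conv_lhs => arg 1; rw [PadicInt.unitCoeff_spec ha]
      rw [mul_comm _ ((l : ℤ_[l]) ^ a.valuation), mul_assoc, Units.mul_inv, mul_one]⟩
  rw [hspan, Nat.card_congr (RingHom.quotientKerEquivOfSurjective
    (ZMod.ringHom_surjective (PadicInt.toZModPow (p := l) a.valuation))).toEquiv, Nat.card_zmod]

variable {ι : Type*} [Fintype ι] [DecidableEq ι] {M N : Type*} [AddCommGroup M] [Module ℤ_[l] M]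
  [AddCommGroup N] [Module ℤ_[l] N]

theorem injective_of_det_ne_zero (bM : Basis ι ℤ_[l] M) (bN : Basis ι ℤ_[l] N) (f : M →ₗ[ℤ_[l]] N)
    (hdet : (LinearMap.toMatrix bM bN f).det ≠ 0) : Function.Injective f := by
  refine (injective_iff_map_eq_zero f).2 fun x hx => ?_
  have h := LinearMap.toMatrix_mulVec_repr bM bN f x
  rw [hx, map_zero, Finsupp.coe_zero] at h
  have := Matrix.eq_zero_of_mulVec_eq_zero hdet h
  exact bM.repr.map_eq_zero_iff.1 (Finsupp.coe_eq_zero.1 this)

theorem det_ne_zero_of_injective (bM : Basis ι ℤ_[l] M) (bN : Basis ι ℤ_[l] N) (f : M →ₗ[ℤ_[l]] N)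
    (hf : Function.Injective f) : (LinearMap.toMatrix bM bN f).det ≠ 0 := fun h => by
  obtain ⟨v, hv, hv0⟩ := Matrix.exists_mulVec_eq_zero_iff.2 h
  apply hv
  have hx : f (bM.equivFun.symm v) = 0 := bN.repr.injective (DFunLike.coe_injective (by
    rw [← LinearMap.toMatrix_mulVec_repr bM bN f, map_zero, Finsupp.coe_zero]
    rw [show (bM.repr (bM.equivFun.symm v) : ι → ℤ_[l]) = v from bM.equivFun.apply_symm_apply v]
    exact hv0))
  rw [← map_zero f] at hx
  exact (LinearEquiv.map_eq_zero_iff _).1 (hf hx)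

/-- The cokernel of an injective map of free modules of equal rank has `l ^ v(det)` elements. -/
theorem natCard_coker (bM : Basis ι ℤ_[l] M) (bN : Basis ι ℤ_[l] N) (f : M →ₗ[ℤ_[l]] N)
    (hf : Function.Injective f) :
    Nat.card (N ⧸ LinearMap.range f) = l ^ ((LinearMap.toMatrix bM bN f).det).valuation := by
  haveI : Module.Free ℤ_[l] N := .of_basis bN
  haveI : Module.Finite ℤ_[l] N := .of_basis bN
  let P := LinearMap.range f
  let e : M ≃ₗ[ℤ_[l]] P := LinearEquiv.ofInjective f hf
  have h : finrank ℤ_[l] P = finrank ℤ_[l] N := by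
    rw [← e.finrank_eq, finrank_eq_card_basis bM, finrank_eq_card_basis bN]
  let t := Submodule.smithNormalFormTopBasis bN h
  let u := Submodule.smithNormalFormBotBasis bN h
  let a := Submodule.smithNormalFormCoeffs bN h
  have hsub : LinearMap.toMatrix u t P.subtype = Matrix.diagonal a := by
    ext i j
    rw [LinearMap.toMatrix_apply, Submodule.subtype_apply, Submodule.smithNormalFormBotBasis_def bN h j,
      map_smul, Basis.repr_self, Finsupp.smul_single, smul_eq_mul, mul_one]
    by_cases hij : i = j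
    · subst hij; rw [Matrix.diagonal_apply_eq, Finsupp.single_eq_same]
    · rw [Matrix.diagonal_apply_ne _ hij, Finsupp.single_eq_of_ne hij]
  have hf' : f = LinearMap.id.comp (P.subtype.comp e.toLinearMap) := LinearMap.ext fun x => rfl
  have hne : ∀ i, a i ≠ 0 := Submodule.smithNormalFormCoeffs_ne_zero bN h
  have hu1 : IsUnit (LinearMap.toMatrix t bN (LinearMap.id : N →ₗ[ℤ_[l]] N)).det :=
    LinearEquiv.isUnit_det (LinearEquiv.refl ℤ_[l] N) t bN
  have hu2 : IsUnit (LinearMap.toMatrix bM u e.toLinearMap).det := e.isUnit_det bM u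
  have hv : ∀ x : ℤ_[l], IsUnit x → x.valuation = 0 := fun x hx => by
    obtain ⟨y, hy⟩ := hx.exists_right_inv
    have := congrArg PadicInt.valuation hy
    rw [PadicInt.valuation_mul hx.ne_zero (right_ne_zero_of_mul_eq_one hy), PadicInt.valuation_one] at this
    omega
  have hdet : ((LinearMap.toMatrix bM bN f).det).valuation = ∑ i, (a i).valuation := by
    rw [hf', LinearMap.toMatrix_comp bM t bN, LinearMap.toMatrix_comp bM u t, hsub, Matrix.det_mul, Matrix.det_mul,
      Matrix.det_diagonal]
    have hp : ∏ i, a i ≠ 0 := Finset.prod_ne_zero_iff.2 fun i _ => hne i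
    rw [PadicInt.valuation_mul hu1.ne_zero (mul_ne_zero hp hu2.ne_zero), PadicInt.valuation_mul hp hu2.ne_zero,
      hv _ hu1, hv _ hu2, zero_add, add_zero]
    clear hp hv
    induction (Finset.univ : Finset ι) using Finset.induction with
    | empty => simp
    | insert i s hi ih =>
      rw [Finset.prod_insert hi, Finset.sum_insert hi,
        PadicInt.valuation_mul (hne i) (Finset.prod_ne_zero_iff.2 fun i _ => hne i), ih]
  rw [hdet, Nat.card_congr (P.quotientEquivPiSpan bN h).toEquiv, Nat.card_pi]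
  rw [Finset.prod_congr rfl fun i _ => natCard_quotient_span l (hne i)]
  rw [Finset.prod_pow_eq_pow_sum]

end GrothLib.DegPoly
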