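import Mathlib.RingTheory.Polynomial.Resultant.Basic
import Mathlib.Algebra.MvPolynomial.Funext
import Mathlib.Algebra.MvPolynomial.Monad
import Mathlib.FieldTheory.IsAlgClosed.AlgebraicClosure
import Mathlib.NumberTheory.Padics.RingHoms
import Mathlib.RingTheory.Polynomial.UniqueFactorization
import Mathlib.Topology.Algebra.MvPolynomial

/-!
# Recognising resultants and polynomials by their `l`-adic sizes
-/

open Polynomial

noncomputable section

namespace GrothLib.DegPoly

section Basic

variable {R S : Type*} [CommRing R] [CommRing S] {d : ℕ}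

/-- The polynomial with given coefficients. -/
def polyOf (a : Fin (d + 1) → R) : R[X] := ∑ i, C (a i) * X ^ (i : ℕ)

theorem natDegree_polyOf (a : Fin (d + 1) → R) : (polyOf a).natDegree ≤ d :=
  natDegree_sum_le_of_forall_le _ _ fun i _ => (natDegree_C_mul_X_pow_le _ _).trans (Nat.le_of_lt_succ i.2)

theorem map_polyOf (φ : R →+* S) (a : Fin (d + 1) → R) : (polyOf a).map φ = polyOf (fun i => φ (a i)) := by
  simp [polyOf, Polynomial.map_sum]

theorem coeff_polyOf (a : Fin (d + 1) → R) (i : Fin (d + 1)) : (polyOf a).coeff i = a i := by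
  simp [polyOf, finsetSum_coeff, coeff_C_mul_X_pow, Fin.val_inj]

theorem polyOf_coeff {F : R[X]} (hF : F.natDegree ≤ d) : polyOf (fun i : Fin (d + 1) => F.coeff i) = F := by
  conv_rhs => rw [as_sum_range_C_mul_X_pow' F (Nat.lt_succ_of_le hF)]
  rw [polyOf, Fin.sum_univ_eq_sum_range (fun i => C (F.coeff i) * X ^ i)]

/-- A split polynomial. -/
def splitPoly (c : R) (b : Fin d → R) : R[X] := C c * ∏ i, (X - C (b i))

theorem natDegree_splitPoly (c : R) (b : Fin d → R) : (splitPoly c b).natDegree ≤ d := by
  refine (natDegree_C_mul_le _ _).trans ((natDegree_prod_le _ _).trans ?_)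
  refine (Finset.sum_le_card_nsmul _ _ 1 fun i _ => natDegree_X_sub_C_le _).trans ?_
  simp

theorem map_splitPoly (φ : R →+* S) (c : R) (b : Fin d → R) :
    (splitPoly c b).map φ = splitPoly (φ c) (fun i => φ (b i)) := by
  simp [splitPoly, Polynomial.map_prod]

/-- The resultant with a split polynomial, in even degree. -/
theorem resultant_splitPoly [Nontrivial R] (P : R[X]) {N : ℕ} (hP : P.natDegree ≤ N) (hN : Even N) (c : R)
    (b : Fin d → R) : resultant P (splitPoly c b) N d = c ^ N * ∏ i, P.eval (b i) := by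
  have hd : (∏ i, (X - C (b i))).natDegree = d := by
    rw [natDegree_prod_of_monic _ _ fun i _ => monic_X_sub_C _]
    simp
  rw [splitPoly, resultant_C_mul_right]
  congr 1
  have h := resultant_prod_right Finset.univ P (fun i => X - C (b i)) N hP (by simp)
  rw [hd] at h
  rw [h]
  refine Finset.prod_congr rfl fun i _ => ?_
  rw [natDegree_X_sub_C, resultant_X_sub_C_right _ _ _ hP, hN.neg_one_pow, one_mul]

end Basic

/-- A polynomial function of the coefficients agreeing with the resultant on split integral polynomials is the resultant. -/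
theorem eval_eq_resultant {k : Type*} [Field k] [CharZero k] (P : k[X]) (N : ℕ) {d : ℕ}
    (Φ : MvPolynomial (Fin (d + 1)) k)
    (h : ∀ (c : ℤ) (b : Fin d → ℤ),
      MvPolynomial.eval (fun i : Fin (d + 1) => (splitPoly (c : k) fun j => (b j : k)).coeff i) Φ =
        resultant P (splitPoly (c : k) fun j => (b j : k)) N d)
    (a : Fin (d + 1) → k) : MvPolynomial.eval a Φ = resultant P (polyOf a) N d := by
  classical
  let U : MvPolynomial (Fin (d + 1)) k := resultant (P.map MvPolynomial.C) (polyOf MvPolynomial.X) N d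
  have hU : ∀ a : Fin (d + 1) → k, MvPolynomial.eval a U = resultant P (polyOf a) N d := fun a => by
    rw [show U = resultant (P.map MvPolynomial.C) (polyOf MvPolynomial.X) N d from rfl, ← resultant_map_map,
      Polynomial.map_map, map_polyOf]
    rw [show (MvPolynomial.eval a).comp MvPolynomial.C = RingHom.id k from RingHom.ext fun r => by simp,
      Polynomial.map_id]
    exact congrArg (fun F => resultant P (polyOf F) N d) (funext fun i => MvPolynomial.eval_X i)
  suffices Φ = U by rw [this, hU]
  rw [← sub_eq_zero]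
  set Δ := Φ - U with hΔ
  let σ : Fin (d + 1) → MvPolynomial (Fin (d + 1)) k :=
    fun i => (splitPoly (MvPolynomial.X 0) fun j : Fin d => MvPolynomial.X j.succ).coeff i
  have hσ : ∀ {L : Type _} [Field L] (φ : k →+* L) (x : Fin (d + 1) → L) (i : Fin (d + 1)),
      MvPolynomial.eval₂Hom φ x (σ i) = (splitPoly (x 0) fun j : Fin d => x j.succ).coeff i := fun φ x i => by
    rw [← coeff_map, map_splitPoly]
    simp only [MvPolynomial.eval₂Hom_X']
  have hΔ' : MvPolynomial.bind₁ σ Δ = 0 := by
    refine MvPolynomial.funext_set (fun _ => Set.range (Int.cast : ℤ → k))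
      (fun _ => Set.infinite_range_of_injective Int.cast_injective) fun x hx => ?_
    rw [map_zero]
    choose z hz using fun i => hx i trivial
    obtain rfl : x = fun i => (z i : k) := funext fun i => (hz i).symm
    show MvPolynomial.eval₂Hom (RingHom.id k) (fun i => (z i : k)) (MvPolynomial.bind₁ σ Δ) = 0
    rw [MvPolynomial.eval₂Hom_bind₁]
    have e : (fun i => MvPolynomial.eval₂Hom (RingHom.id k) (fun i => (z i : k)) (σ i)) =
        fun i : Fin (d + 1) => (splitPoly ((z 0 : ℤ) : k) fun j => ((z j.succ : ℤ) : k)).coeff i :=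
      funext fun i => hσ (RingHom.id k) (fun i => (z i : k)) i
    rw [e]
    show MvPolynomial.eval _ Δ = 0
    rw [hΔ, map_sub, h, hU, polyOf_coeff (natDegree_splitPoly _ _), sub_self]
  let φ := algebraMap k (AlgebraicClosure k)
  have hzero : MvPolynomial.map φ Δ * MvPolynomial.X (Fin.last d) = 0 := by
    refine MvPolynomial.funext fun a => ?_
    rw [map_mul, MvPolynomial.eval_X, map_zero]
    rcases eq_or_ne (a (Fin.last d)) 0 with h0 | h0
    · rw [h0, mul_zero]
    · have hdeg : (polyOf a).natDegree = d := le_antisymm (natDegree_polyOf a)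
        (le_natDegree_of_ne_zero (by simpa [coeff_polyOf a (Fin.last d)] using
          (show (polyOf a).coeff (Fin.last d : Fin (d + 1)) ≠ 0 by rwa [coeff_polyOf])))
      have hs := IsAlgClosed.splits (polyOf a)
      have hcard : (polyOf a).roots.toList.length = d := by
        rw [Multiset.length_toList, ← hs.natDegree_eq_card_roots, hdeg]
      let b : Fin d → AlgebraicClosure k := fun j => (polyOf a).roots.toList.get (j.cast hcard.symm)
      have hprod : splitPoly (polyOf a).leadingCoeff b = polyOf a := by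
        conv_rhs => rw [hs.eq_prod_roots]
        rw [splitPoly]
        congr 1
        conv_rhs => rw [← Multiset.coe_toList (polyOf a).roots]
        rw [Multiset.map_coe, Multiset.prod_coe, ← List.ofFn_get (polyOf a).roots.toList, List.map_ofFn,
          List.prod_ofFn]
        exact (Fintype.prod_equiv (finCongr hcard.symm) _ _ fun j => rfl)
      let x : Fin (d + 1) → AlgebraicClosure k := Fin.cons (polyOf a).leadingCoeff b
      have hax : a = fun i : Fin (d + 1) => MvPolynomial.eval₂Hom φ x (σ i) := funext fun i => by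
        rw [hσ φ x i, show x 0 = (polyOf a).leadingCoeff from rfl,
          show (fun j : Fin d => x j.succ) = b from funext fun j => rfl, hprod, coeff_polyOf]
      have hΔa : MvPolynomial.eval a (MvPolynomial.map φ Δ) = 0 := by
        rw [MvPolynomial.eval_map]
        conv_lhs => rw [hax]
        have := congrArg (MvPolynomial.eval₂Hom φ x) hΔ'
        rw [MvPolynomial.eval₂Hom_bind₁, map_zero] at this
        exact this
      rw [hΔa, zero_mul]
  rw [mul_eq_zero, or_iff_left (MvPolynomial.X_ne_zero _)] at hzero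
  exact MvPolynomial.map_injective φ φ.injective (hzero.trans (map_zero _).symm)

variable (l : ℕ) [hl : Fact l.Prime]

/-- Sizes agreeing at integral points agree at all `l`-adic integral points. -/
theorem norm_eval_eq {m : ℕ} (p q : MvPolynomial (Fin m) ℚ_[l])
    (h : ∀ a : Fin m → ℤ, ‖MvPolynomial.eval (fun i => (a i : ℚ_[l])) p‖ =
      ‖MvPolynomial.eval (fun i => (a i : ℚ_[l])) q‖) (a : Fin m → ℤ_[l]) :
    ‖MvPolynomial.eval (fun i => (a i : ℚ_[l])) p‖ = ‖MvPolynomial.eval (fun i => (a i : ℚ_[l])) q‖ := by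
  have hd : DenseRange (Pi.map fun _ : Fin m => (Int.cast : ℤ → ℤ_[l])) :=
    DenseRange.piMap fun _ => PadicInt.denseRange_intCast
  have hc : ∀ r : MvPolynomial (Fin m) ℚ_[l],
      Continuous fun a : Fin m → ℤ_[l] => ‖MvPolynomial.eval (fun i => (a i : ℚ_[l])) r‖ := fun r =>
    ((MvPolynomial.continuous_eval r).comp
      (continuous_pi fun i => continuous_subtype_val.comp (continuous_apply i))).norm
  exact congrFun (hd.equalizer (hc p) (hc q) (funext fun z => by simpa using h z)) a

theorem resultant_one_eq {P : ℚ_[l][X]} (hP : P.Monic) (d : ℕ) : resultant P 1 P.natDegree d = 1 := by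
  rw [resultant_one_right, hP.coeff_natDegree, one_pow]

/-- Monic polynomials whose resultants have equal sizes are equal. -/
theorem eq_of_norm_resultant_eq {P Q : ℚ_[l][X]} (hP : P.Monic) (hQ : Q.Monic)
    (h : ∀ (d : ℕ) (F : ℚ_[l][X]), F.natDegree ≤ d →
      ‖resultant P F P.natDegree d‖ = ‖resultant Q F Q.natDegree d‖) : P = Q := by
  classical
  have key : ∀ (p : ℚ_[l][X]), Irreducible p → p.Monic → ∀ a b, p ^ a ∣ P → ¬ p ^ (a + 1) ∣ P →
      p ^ b ∣ Q → ¬ p ^ (b + 1) ∣ Q → a = b := by
    intro p hp hpm a b ⟨P', hPe⟩ hP'n ⟨Q', hQe⟩ hQ'n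
    have hP'm : P'.Monic := (hpm.pow a).of_mul_monic_left (hPe ▸ hP)
    have hQ'm : Q'.Monic := (hpm.pow b).of_mul_monic_left (hQe ▸ hQ)
    have hcop : IsCoprime (p ^ (a + b)) (P' * Q') := by
      refine IsCoprime.pow_left (IsCoprime.mul_right ?_ ?_) <;> refine hp.coprime_iff_not_dvd.2 fun hd => ?_
      · exact hP'n (hPe ▸ (pow_succ p a).symm ▸ mul_dvd_mul_left _ hd)
      · exact hQ'n (hQe ▸ (pow_succ p b).symm ▸ mul_dvd_mul_left _ hd)
    obtain ⟨u, v, huv⟩ := hcop
    let c : ℚ_[l] := l
    let F : ℚ_[l][X] := C c + p ^ (a + b) * (u * (1 - C c))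
    have hF : F = 1 + (P' * Q') * (v * (C c - 1)) := by
      linear_combination (1 - C c) * huv
    let d := F.natDegree + (p ^ (a + b)).natDegree + (u * (1 - C c)).natDegree + (P' * Q').natDegree +
      (v * (C c - 1)).natDegree + P.natDegree + Q.natDegree
    have hd := h d F (by omega)
    have hR : ∀ (n : ℕ) (R' : ℚ_[l][X]), R'.Monic → n ≤ a + b → (∃ T, P' * Q' = R' * T ∧ T.Monic) →
        ‖resultant (p ^ n * R') F (p ^ n * R').natDegree d‖ = ‖c‖ ^ (n * p.natDegree) := by
      rintro n R' hR' hn ⟨T, hT, hTm⟩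
      rw [(hpm.pow n).natDegree_mul hR', resultant_mul_left _ _ _ _ (by omega)]
      have h1 : resultant R' F R'.natDegree d = 1 := by
        rw [hF, hT, mul_assoc, resultant_add_mul_right _ _ _ _ _ ?_ le_rfl]
        · exact resultant_one_eq l hR' d
        · have e := congrArg natDegree hT
          rw [hR'.natDegree_mul hTm] at e
          have e2 : (T * (v * (C c - 1))).natDegree ≤ T.natDegree + (v * (C c - 1)).natDegree := natDegree_mul_le
          omega
      have h2 : resultant (p ^ n) F (p ^ n).natDegree d = c ^ (p ^ n).natDegree := by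
        rw [show F = C c + p ^ n * (p ^ (a + b - n) * (u * (1 - C c))) by
          rw [← mul_assoc (p ^ n), ← pow_add, Nat.add_sub_cancel' hn],
          resultant_add_mul_right _ _ _ _ _ ?_ le_rfl, resultant_C_right, (hpm.pow n).coeff_natDegree, one_pow,
          one_mul]
        have e2 : (p ^ (a + b - n) * (u * (1 - C c))).natDegree ≤
          (p ^ (a + b - n)).natDegree + (u * (1 - C c)).natDegree := natDegree_mul_le
        have e3 : (p ^ n).natDegree + (p ^ (a + b - n)).natDegree = (p ^ (a + b)).natDegree := by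
          rw [← (hpm.pow n).natDegree_mul (hpm.pow _), ← pow_add, Nat.add_sub_cancel' hn]
        omega
      rw [h1, mul_one, h2, norm_pow, hpm.natDegree_pow]
    rw [hPe, hQe, hR a P' hP'm (by omega) ⟨Q', rfl, hQ'm⟩, hR b Q' hQ'm (by omega) ⟨P', mul_comm _ _, hP'm⟩] at hd
    have hc1 : ‖c‖ < 1 := Padic.norm_p_lt_one
    have hc0 : 0 < ‖c‖ := norm_pos_iff.2 (by simp [c, hl.out.ne_zero])
    exact Nat.eq_of_mul_eq_mul_right hp.natDegree_pos
      ((pow_right_strictAnti₀ hc0 hc1).injective hd)
  have hnf : UniqueFactorizationMonoid.normalizedFactors P = UniqueFactorizationMonoid.normalizedFactors Q := by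
    refine Multiset.ext.2 fun p => ?_
    by_cases hp : Irreducible p ∧ normalize p = p
    · have hpm : p.Monic := by
        rw [← hp.2]
        exact Polynomial.monic_normalize hp.1.ne_zero
      obtain ⟨a, P', hP', hPe⟩ := WfDvdMonoid.max_power_factor hP.ne_zero hp.1
      obtain ⟨b, Q', hQ', hQe⟩ := WfDvdMonoid.max_power_factor hQ.ne_zero hp.1
      have ha : ¬ p ^ (a + 1) ∣ P := fun hd => hP' ((mul_dvd_mul_iff_left (pow_ne_zero a hp.1.ne_zero)).1
        (by rw [← pow_succ]; exact hPe ▸ hd))
      have hb : ¬ p ^ (b + 1) ∣ Q := fun hd => hQ' ((mul_dvd_mul_iff_left (pow_ne_zero b hp.1.ne_zero)).1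
        (by rw [← pow_succ]; exact hQe ▸ hd))
      rw [UniqueFactorizationMonoid.count_normalizedFactors_eq hp.1 hp.2 ⟨P', hPe⟩ ha,
        UniqueFactorizationMonoid.count_normalizedFactors_eq hp.1 hp.2 ⟨Q', hQe⟩ hb]
      exact key p hp.1 hpm a b ⟨P', hPe⟩ ha ⟨Q', hQe⟩ hb
    · rw [Multiset.count_eq_zero.2 fun h => hp ⟨UniqueFactorizationMonoid.irreducible_of_normalized_factor p h,
          UniqueFactorizationMonoid.normalize_normalized_factor p h⟩,
        Multiset.count_eq_zero.2 fun h => hp ⟨UniqueFactorizationMonoid.irreducible_of_normalized_factor p h,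
          UniqueFactorizationMonoid.normalize_normalized_factor p h⟩]
  refine eq_of_monic_of_associated hP hQ ?_
  exact (UniqueFactorizationMonoid.associated_iff_normalizedFactors_eq_normalizedFactors hP.ne_zero hQ.ne_zero).2 hnf

end GrothLib.DegPoly
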