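import Groth.Agent.Lib.DegPoly.Valuation
import Groth.Agent.Lib.DegPoly.Resultant
import Mathlib.LinearAlgebra.Matrix.Charpoly.Eigs
import Mathlib.LinearAlgebra.Charpoly.ToMatrix
import Mathlib.FieldTheory.IsAlgClosed.Spectrum
import Mathlib.RingTheory.Polynomial.IsIntegral

/-!
# The degree of an endomorphism is the determinant of its Tate map
-/

universe u

open CategoryTheory CategoryTheory.Limits MonoidalCategory CartesianMonoidalCategory AlgebraicGeometry
open scoped MonObj

set_option backward.isDefEq.respectTransparency false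

noncomputable section

namespace GrothLib.DegPoly

open AbDual GrothLib.AbTors

theorem eval_mul_of_isHomogeneous {R : Type*} [CommRing R] {σ : Type*} [Fintype σ] {p : MvPolynomial σ R} {n : ℕ}
    (hp : p.IsHomogeneous n) (c : R) (x : σ → R) :
    MvPolynomial.eval (fun i => c * x i) p = c ^ n * MvPolynomial.eval x p := by
  rw [MvPolynomial.eval_eq', MvPolynomial.eval_eq', Finset.mul_sum]
  refine Finset.sum_congr rfl fun d hd => ?_
  have h := hp (MvPolynomial.mem_support_iff.1 hd)
  rw [Finsupp.weight_apply, Finsupp.sum_fintype _ _ (fun _ => by simp)] at h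
  simp only [Pi.one_apply, smul_eq_mul, _root_.mul_one] at h
  simp only [_root_.mul_pow, Finset.prod_mul_distrib, Finset.prod_pow_eq_pow_sum, h]
  ring

section Dg

variable {K : Type u} [Field K] [IsAlgClosed K] {A : Over (Spec (CommRingCat.of K))} [GrpObj A] [IsCommMonObj A]
  [IsProper A.hom] [GeometricallyIntegral A.hom] {g : ℕ} (hA : topologicalKrullDim A.left = (g : WithBot ℕ∞))

open scoped Classical in
/-- The degree of an endomorphism, zero when it is not finite. -/
def dg (β : EndAV.End A) : ℚ :=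
  haveI : IsIntegral A.left := GeometricallyIntegral.isIntegral_of_subsingleton A.hom
  if IsFinite β.toHom.left then (β.toHom.left.residueDegree (genericPoint A.left) : ℚ) else 0

include hA in
theorem dg_eq_of_isFinite {β : EndAV.End A} (h : IsFinite β.toHom.left) (a : A.left) :
    dg β = (β.toHom.left.finrank a : ℚ) := by
  rw [dg, if_pos h, finrank_eq_residueDegree hA hA β.toHom a]

theorem dg_eq_zero {β : EndAV.End A} (h : ¬ IsFinite β.toHom.left) : dg β = 0 := if_neg h

include hA in
/-- The degree of combinations is polynomial. -/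
theorem exists_dg_poly {m : ℕ} (f : Fin m → EndAV.End A) :
    ∃ R : MvPolynomial (Fin m) ℚ, R.IsHomogeneous (2 * g) ∧
      ∀ a : Fin m → ℤ, dg (∑ i, a i • f i) = MvPolynomial.eval (fun i => (a i : ℚ)) R := by
  haveI : IsIntegral A.left := GeometricallyIntegral.isIntegral_of_subsingleton A.hom
  obtain ⟨R, hR, h⟩ := exists_degree_poly hA hA (fun i => (f i).toHom) (isMonHom_prod_zpow fun i => (f i).toHom)
  refine ⟨R, hR, fun a => ?_⟩
  have e : (∑ i, a i • f i : EndAV.End A).toHom = ∏ i, (f i).toHom ^ a i := HomFG.toHom_sum_zsmul f a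
  by_cases hf : IsFinite (∑ i, a i • f i : EndAV.End A).toHom.left
  · rw [dg_eq_of_isFinite hA hf (genericPoint A.left)]
    have h1 := (h a).1 (e ▸ hf) (genericPoint A.left)
    rw [← e] at h1
    exact h1
  · rw [dg_eq_zero hf, (h a).2 fun h' => hf (e.symm ▸ h')]

variable (l : ℕ) [hl : Fact l.Prime] (hlK : (l : K) ≠ 0)

/-- The Tate representation over the algebraically closed base field. -/
abbrev rep0 : EndAV.End A →+* Module.End ℤ_[l] (TateMod A l (Over.mk (𝟙 (Spec (CommRingCat.of K))))) :=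
  EndAV.End.tateRep l (Over.mk (𝟙 (Spec (CommRingCat.of K))))

variable {J : Type*} [Fintype J] [DecidableEq J]
  (b : Module.Basis J ℤ_[l] (TateMod A l (Over.mk (𝟙 (Spec (CommRingCat.of K))))))

/-- The determinant of an endomorphism on the Tate module. -/
def det0 : EndAV.End A →* ℤ_[l] :=
  Matrix.detMonoidHom.comp ((LinearMap.toMatrixAlgEquiv b).toAlgHom.toMonoidHom.comp (rep0 (A := A) l).toMonoidHom)

theorem det0_apply (β : EndAV.End A) :
    det0 l b β = (LinearMap.toMatrix b b (tateMapₗ (l := l) β.toHom)).det := rfl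

include hlK in
theorem det0_ne_zero_iff (β : EndAV.End A) : det0 l b β ≠ 0 ↔ IsFinite β.toHom.left := by
  rw [det0_apply]
  exact ⟨fun h => isFinite_of_injective_tateMap (𝟙 (Spec (CommRingCat.of K))) l hlK β.toHom
    (injective_of_det_ne_zero l b b _ h),
    fun h => det_ne_zero_of_injective l b b _ (injective_tateMap_of_isFinite (𝟙 (Spec (CommRingCat.of K))) l β.toHom)⟩

include hA hlK in
/-- The `l`-adic sizes of the degree and of the determinant agree. -/
theorem norm_dg (β : EndAV.End A) :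
    ‖((dg β : ℚ) : ℚ_[l])‖ = ‖((det0 l b β : ℤ_[l]) : ℚ_[l])‖ := by
  haveI : IsIntegral A.left := GeometricallyIntegral.isIntegral_of_subsingleton A.hom
  by_cases hf : IsFinite β.toHom.left
  · have hd := (det0_ne_zero_iff l hlK b β).2 hf
    have hv := padicValNat_degree l hA hA hlK β.toHom b b (genericPoint A.left)
    rw [← det0_apply] at hv
    have hne : β.toHom.left.finrank (genericPoint A.left) ≠ 0 := by
      haveI := surjective_of_finite hA hA β.toHom
      haveI : Flat β.toHom.left := GrothLib.GrpSchField.flat_hom β.toHom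
      haveI : IsLocallyNoetherian A.left := LocallyOfFiniteType.isLocallyNoetherian A.hom
      haveI : LocallyOfFinitePresentation β.toHom.left := inferInstance
      exact Nat.one_le_iff_ne_zero.1 ((Scheme.Hom.one_le_finrank_iff_surjective (f := β.toHom.left)).2 ‹_› _)
    rw [dg_eq_of_isFinite hA hf (genericPoint A.left), Rat.cast_natCast,
      Padic.norm_eq_zpow_neg_valuation (Nat.cast_ne_zero.2 hne), Padic.norm_eq_zpow_neg_valuation
        (PadicInt.coe_ne_zero.2 hd), Padic.valuation_natCast, PadicInt.valuation_coe, hv]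
  · rw [dg_eq_zero hf, show det0 l b β = 0 by by_contra h; exact hf ((det0_ne_zero_iff l hlK b β).1 h)]
    simp

include hA hlK b in
theorem card_index : Fintype.card J = 2 * g := by
  rw [← Module.finrank_eq_card_basis b]
  exact finrank_eq A _ l hlK hA

include hA in
/-- The degree is multiplicative. -/
theorem dg_mul (β δ : EndAV.End A) : dg (β * δ) = dg β * dg δ := by
  haveI : IsIntegral A.left := GeometricallyIntegral.isIntegral_of_subsingleton A.hom
  obtain ⟨l, hlp, hlK⟩ := HomFG.exists_prime_ne_zero K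
  haveI := Fact.mk hlp
  haveI := module_finite A (𝟙 (Spec (CommRingCat.of K))) l hlK
  haveI : Module.Free ℤ_[l] (TateMod A l (Over.mk (𝟙 (Spec (CommRingCat.of K))))) :=
    Module.free_of_finite_type_torsion_free'
  let b := Module.finBasis ℤ_[l] (TateMod A l (Over.mk (𝟙 (Spec (CommRingCat.of K)))))
  by_cases h : IsFinite β.toHom.left ∧ IsFinite δ.toHom.left
  · haveI := h.1
    haveI := h.2
    have he : (β * δ).toHom.left = δ.toHom.left ≫ β.toHom.left := rfl
    have hfin : IsFinite (β * δ).toHom.left := by rw [he]; infer_instance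
    haveI := surjective_of_finite hA hA δ.toHom
    have hgen : δ.toHom.left (genericPoint A.left) = genericPoint A.left := by
      obtain ⟨z, hz⟩ := δ.toHom.left.surjective (genericPoint A.left)
      have h1 : δ.toHom.left (genericPoint A.left) ⤳ genericPoint A.left :=
        hz ▸ ((genericPoint_spec A.left).specializes trivial).map δ.toHom.left.continuous
      exact (h1.antisymm ((genericPoint_spec A.left).specializes trivial)).eq
    rw [dg, dg, dg, if_pos hfin, if_pos h.1, if_pos h.2, he, CycBasic.residueDegree_comp, hgen, Nat.cast_mul]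
  · have h0 : ¬ IsFinite (β * δ).toHom.left := fun hf => h (by
      have := (det0_ne_zero_iff l hlK b _).2 hf
      rw [map_mul] at this
      exact ⟨(det0_ne_zero_iff l hlK b β).1 (left_ne_zero_of_mul this),
        (det0_ne_zero_iff l hlK b δ).1 (right_ne_zero_of_mul this)⟩)
    rw [dg_eq_zero h0]
    rcases not_and_or.1 h with h1 | h1 <;> rw [dg_eq_zero h1] <;> simp

theorem dg_one : dg (1 : EndAV.End A) = 1 := by
  haveI : IsIntegral A.left := GeometricallyIntegral.isIntegral_of_subsingleton A.hom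
  obtain ⟨g, hA⟩ := exists_dim A
  have hf : IsFinite (1 : EndAV.End A).toHom.left := by
    rw [EndAV.End.toHom_one, Over.id_left]; infer_instance
  rw [dg_eq_of_isFinite hA hf (genericPoint A.left)]
  simp only [EndAV.End.toHom_one, finrank_id, Nat.cast_one]

include hA in
theorem dg_zsmul (c : ℤ) (β : EndAV.End A) : dg (c • β) = (c : ℚ) ^ (2 * g) * dg β := by
  obtain ⟨R, hR, h⟩ := exists_dg_poly hA (fun _ : Fin 1 => β)
  have h1 := h (fun _ => c)
  have h2 := h (fun _ => 1)
  rw [Fin.sum_univ_one] at h1 h2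
  rw [one_zsmul] at h2
  rw [h1, h2, ← eval_mul_of_isHomogeneous hR]
  simp

/-- The degree as a monoid homomorphism. -/
def dgHom : EndAV.End A →* ℚ where
  toFun := dg
  map_one' := dg_one
  map_mul' := dg_mul (exists_dim A).choose_spec

include hA in
theorem exists_charpoly_dg (α : EndAV.End A) : ∃ P : Polynomial ℚ, P.Monic ∧ P.natDegree = 2 * g ∧
    ∀ n : ℤ, dg (α - (n : EndAV.End A)) = P.eval (n : ℚ) := by
  haveI : IsIntegral A.left := GeometricallyIntegral.isIntegral_of_subsingleton A.hom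
  obtain ⟨P, hP, hdeg, h⟩ := exists_charpoly_rat hA α.toHom
  refine ⟨P.comp (-Polynomial.X), ?_, ?_, fun n => ?_⟩
  · rw [Polynomial.Monic, Polynomial.leadingCoeff_comp (by simp)]
    simp [hP.leadingCoeff, hdeg, pow_mul]
  · rw [Polynomial.natDegree_comp, hdeg]; simp
  · rw [Polynomial.eval_comp, Polynomial.eval_neg, Polynomial.eval_X, ← Int.cast_neg]
    have e : (α - (n : EndAV.End A)).toHom = α.toHom * 𝟙 A ^ (-n) := by
      rw [EndAV.End.toHom_sub, EndAV.End.toHom_intCast, zpow_neg, div_eq_mul_inv]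
    by_cases hf : IsFinite (α - (n : EndAV.End A)).toHom.left
    · have h1 := (h (-n)).1 (e ▸ hf) (genericPoint A.left)
      rw [← e] at h1
      rw [dg_eq_of_isFinite hA hf (genericPoint A.left)]
      exact h1
    · rw [dg_eq_zero hf, (h (-n)).2 fun h' => hf (e.symm ▸ h')]

open Polynomial in
include hA hlK in
/-- The characteristic polynomial on the Tate module gives the degree. -/
theorem charpoly_eq (α : EndAV.End A) {P : Polynomial ℚ} (hP : P.Monic) (hdeg : P.natDegree = 2 * g)
    (hval : ∀ n : ℤ, dg (α - (n : EndAV.End A)) = P.eval (n : ℚ)) :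
    P.map (algebraMap ℚ ℚ_[l]) =
      (LinearMap.toMatrixAlgEquiv b (rep0 l α)).charpoly.map PadicInt.Coe.ringHom := by
  set M := LinearMap.toMatrixAlgEquiv b (rep0 l α) with hM
  set Q := M.charpoly with hQdef
  have hQm : Q.Monic := M.charpoly_monic
  have hQd : Q.natDegree = 2 * g := by rw [M.charpoly_natDegree_eq_dim, card_index hA l hlK b]
  have hev : Even (2 * g) := even_two_mul g
  refine eq_of_norm_resultant_eq l (hP.map _) (hQm.map _) fun d => ?_
  rw [hP.natDegree_map, hQm.natDegree_map, hdeg, hQd]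
  obtain ⟨R, hR, hRval⟩ := exists_dg_poly hA (fun i : Fin (d + 1) => α ^ (i : ℕ))
  let ι' : ℤ_[l] →+* ℚ_[l] := PadicInt.Coe.ringHom
  let φ : ℤ[X] →+* EndAV.End A := (aeval α).toRingHom
  have haeval : ∀ a : Fin (d + 1) → ℤ, aeval α (polyOf a) = ∑ i, a i • α ^ (i : ℕ) := fun a => by
    simp [polyOf, Algebra.algebraMap_eq_smul_one]
  let D : MvPolynomial (Fin (d + 1)) ℚ_[l] :=
    (∑ i : Fin (d + 1), (MvPolynomial.X i : MvPolynomial (Fin (d + 1)) ℚ_[l]) •
      ((M.map ι') ^ (i : ℕ)).map (MvPolynomial.C : ℚ_[l] → MvPolynomial (Fin (d + 1)) ℚ_[l])).det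
  have hD : ∀ a : Fin (d + 1) → ℤ, MvPolynomial.eval (fun i => (a i : ℚ_[l])) D =
      ((det0 l b (aeval α (polyOf a)) : ℤ_[l]) : ℚ_[l]) := fun a => by
    show (MvPolynomial.eval _) (Matrix.det _) = ι' (Matrix.det (LinearMap.toMatrixAlgEquiv b (rep0 l (aeval α (polyOf a)))))
    rw [RingHom.map_det, RingHom.map_det]
    congr 1
    rw [haeval, map_sum, map_sum, map_sum, map_sum]
    refine Finset.sum_congr rfl fun i _ => ?_
    rw [map_zsmul, map_pow, map_zsmul, map_pow, map_zsmul, map_pow]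
    ext p q
    simp [RingHom.mapMatrix_apply, hM, ι']
  have hRl : ∀ a : Fin (d + 1) → ℤ, MvPolynomial.eval (fun i => (a i : ℚ_[l]))
      (MvPolynomial.map (algebraMap ℚ ℚ_[l]) R) = ((dg (aeval α (polyOf a)) : ℚ) : ℚ_[l]) := fun a => by
    rw [haeval, hRval, MvPolynomial.eval_map, eq_comm]
    rw [show ((MvPolynomial.eval (fun i => (a i : ℚ)) R : ℚ) : ℚ_[l]) =
      algebraMap ℚ ℚ_[l] (MvPolynomial.eval (fun i => (a i : ℚ)) R) from (eq_ratCast _ _).symm]
    rw [MvPolynomial.eval, MvPolynomial.coe_eval₂Hom, MvPolynomial.eval₂_comp_left (algebraMap ℚ ℚ_[l])]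
    simp [Function.comp_def]
  have hsplit : ∀ (c : ℤ) (r : Fin d → ℤ), aeval α (splitPoly c r) = c • aeval α (∏ j, (X - C (r j))) := fun c r => by
    rw [splitPoly, ← smul_eq_C_mul, map_zsmul]
  have hco : ∀ (c : ℤ) (r : Fin d → ℤ), (fun i : Fin (d + 1) => ((((splitPoly c r).coeff i) : ℤ) : ℚ_[l])) =
      fun i : Fin (d + 1) => (splitPoly (c : ℚ_[l]) fun j => (r j : ℚ_[l])).coeff i := fun c r => _root_.funext fun i => by
    rw [← eq_intCast (Int.castRingHom ℚ_[l]), ← coeff_map, map_splitPoly]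
    rfl
  have hfac : ∀ r : ℤ, ((det0 l b (α - (r : EndAV.End A)) : ℤ_[l]) : ℚ_[l]) =
      (Q.map ι').eval ((r : ℤ) : ℚ_[l]) := fun r => by
    rw [← map_intCast ι', eval_map_apply]
    congr 1
    show (LinearMap.toMatrixAlgEquiv b (rep0 l (α - (r : EndAV.End A)))).det = _
    rw [map_sub, map_sub, map_intCast, map_intCast, ← hM, hQdef, Matrix.eval_charpoly, map_intCast, ← neg_sub (r : Matrix J J ℤ_[l]) M,
      Matrix.det_neg, card_index hA l hlK b, hev.neg_one_pow, _root_.one_mul]
  have h1 : ∀ a : Fin (d + 1) → ℚ_[l], MvPolynomial.eval a (MvPolynomial.map (algebraMap ℚ ℚ_[l]) R) =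
      resultant (P.map (algebraMap ℚ ℚ_[l])) (polyOf a) (2 * g) d := by
    refine eval_eq_resultant _ _ _ fun c r => ?_
    rw [resultant_splitPoly _ (by rw [hP.natDegree_map, hdeg]) hev, ← hco, hRl,
      polyOf_coeff (natDegree_splitPoly c r), hsplit, dg_zsmul hA]
    have hp : dg (aeval α (∏ j, (X - C (r j)))) = ∏ j, dg (α - ((r j : ℤ) : EndAV.End A)) := by
      refine (map_prod ((dgHom (A := A)).comp φ.toMonoidHom) _ _).trans (Finset.prod_congr rfl fun j _ => ?_)
      show dg (aeval α (X - C (r j))) = _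
      rw [map_sub, aeval_X, aeval_C, eq_intCast (algebraMap ℤ (EndAV.End A))]
    rw [hp, Rat.cast_mul, Rat.cast_pow, Rat.cast_intCast, Rat.cast_prod]
    congr 1
    refine Finset.prod_congr rfl fun j _ => ?_
    rw [hval, ← map_intCast (algebraMap ℚ ℚ_[l]), eval_map_apply, eq_ratCast]
  have h2 : ∀ a : Fin (d + 1) → ℚ_[l], MvPolynomial.eval a D = resultant (Q.map ι') (polyOf a) (2 * g) d := by
    refine eval_eq_resultant _ _ _ fun c r => ?_
    rw [resultant_splitPoly _ (by rw [hQm.natDegree_map, hQd]) hev, ← hco, hD,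
      polyOf_coeff (natDegree_splitPoly c r), hsplit]
    have hp : det0 l b (aeval α (∏ j, (X - C (r j)))) = ∏ j, det0 l b (α - ((r j : ℤ) : EndAV.End A)) := by
      refine (map_prod ((det0 (A := A) l b).comp φ.toMonoidHom) _ _).trans (Finset.prod_congr rfl fun j _ => ?_)
      show det0 l b (aeval α (X - C (r j))) = _
      rw [map_sub, aeval_X, aeval_C, eq_intCast (algebraMap ℤ (EndAV.End A))]
    have hz : ∀ β : EndAV.End A, det0 l b (c • β) = (c : ℤ_[l]) ^ (2 * g) * det0 l b β := fun β => by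
      show (LinearMap.toMatrixAlgEquiv b (rep0 l (c • β))).det = _ * (LinearMap.toMatrixAlgEquiv b (rep0 l β)).det
      rw [map_zsmul, map_zsmul, ← Int.cast_smul_eq_zsmul ℤ_[l], Matrix.det_smul, card_index hA l hlK b]
    rw [hz, hp, PadicInt.coe_mul, PadicInt.coe_pow, PadicInt.coe_intCast]
    congr 1
    rw [show ((∏ j, det0 l b (α - ((r j : ℤ) : EndAV.End A)) : ℤ_[l]) : ℚ_[l]) =
      ι' (∏ j, det0 l b (α - ((r j : ℤ) : EndAV.End A))) from rfl, map_prod]
    exact Finset.prod_congr rfl fun j _ => hfac (r j)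
  have hint : ∀ a : Fin (d + 1) → ℤ_[l],
      ‖resultant (P.map (algebraMap ℚ ℚ_[l])) (polyOf fun i => (a i : ℚ_[l])) (2 * g) d‖ =
        ‖resultant (Q.map ι') (polyOf fun i => (a i : ℚ_[l])) (2 * g) d‖ := fun a => by
    rw [← h1, ← h2]
    refine norm_eval_eq l _ _ (fun z => ?_) a
    rw [hRl, hD]
    exact norm_dg hA l hlK b _
  intro F hF
  obtain ⟨s, hs⟩ : ∃ s : ℕ, ∀ i : Fin (d + 1), ‖(l : ℚ_[l]) ^ s * F.coeff i‖ ≤ 1 := by
    have hlt : (l : ℝ)⁻¹ < 1 := inv_lt_one_of_one_lt₀ (by exact_mod_cast hl.out.one_lt)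
    obtain ⟨s, hs⟩ := exists_pow_lt_of_lt_one (inv_pos.2 (show (0 : ℝ) < 1 + ∑ i : Fin (d + 1), ‖F.coeff i‖ by positivity)) hlt
    refine ⟨s, fun i => ?_⟩
    rw [norm_mul, norm_pow, Padic.norm_p]
    have hle : ‖F.coeff i‖ ≤ 1 + ∑ i : Fin (d + 1), ‖F.coeff i‖ := (Finset.single_le_sum
      (fun (j : Fin (d + 1)) _ => norm_nonneg (F.coeff j)) (Finset.mem_univ i)).trans (le_add_of_nonneg_left zero_le_one)
    calc ((l : ℝ)⁻¹) ^ s * ‖F.coeff i‖ ≤ (1 + ∑ i : Fin (d + 1), ‖F.coeff i‖)⁻¹ * (1 + ∑ i : Fin (d + 1), ‖F.coeff i‖) :=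
          mul_le_mul hs.le hle (norm_nonneg _) (by positivity)
      _ = 1 := inv_mul_cancel₀ (by positivity)
  have := hint fun i => ⟨(l : ℚ_[l]) ^ s * F.coeff i, hs i⟩
  rw [show (polyOf fun i : Fin (d + 1) => (((⟨(l : ℚ_[l]) ^ s * F.coeff i, hs i⟩ : ℤ_[l])) : ℚ_[l])) =
    C ((l : ℚ_[l]) ^ s) * F by
      conv_rhs => rw [← polyOf_coeff hF]
      rw [polyOf, polyOf, Finset.mul_sum]
      refine Finset.sum_congr rfl fun i _ => ?_
      rw [← mul_assoc (C _), ← map_mul],
    resultant_C_mul_right, resultant_C_mul_right, norm_mul, norm_mul] at this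
  exact mul_left_cancel₀ (norm_ne_zero_iff.2 (pow_ne_zero _ (pow_ne_zero _ (Nat.cast_ne_zero.2 hl.out.ne_zero)))) this

end Dg

end GrothLib.DegPoly
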