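import Groth.Agent.Lib.DegPoly.SelfInt
import Groth.Agent.Lib.AbTors.Degree
import Groth.Agent.Lib.HomFG.Finite

/-!
# The degree of a homomorphism is a homogeneous polynomial of degree `2g`
-/

universe u

open CategoryTheory CategoryTheory.Limits MonoidalCategory CartesianMonoidalCategory AlgebraicGeometry
open scoped MonObj
open GrothLib.Snapper GrothLib.Cube

set_option backward.isDefEq.respectTransparency false

noncomputable section

namespace GrothLib.DegPoly

variable {K : Type u} [Field K] {A B : Over (Spec (CommRingCat.of K))} [GrpObj A] [GrpObj B]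
  [IsProper A.hom] [GeometricallyIntegral A.hom] [IsProper B.hom] [GeometricallyIntegral B.hom] {g : ℕ}
  (hA : topologicalKrullDim A.left = (g : WithBot ℕ∞)) (hB : topologicalKrullDim B.left = (g : WithBot ℕ∞))

include hA hB in
/-- A finite homomorphism between abelian varieties of equal dimension has constant degree, the residue degree at the generic point. -/
theorem finrank_eq_residueDegree (f : A ⟶ B) [IsMonHom f] [IsFinite f.left] (b : B.left) :
    haveI : IsIntegral A.left := GeometricallyIntegral.isIntegral_of_subsingleton A.hom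
    f.left.finrank b = f.left.residueDegree (genericPoint A.left) := by
  haveI : IsIntegral A.left := GeometricallyIntegral.isIntegral_of_subsingleton A.hom
  haveI : IsIntegral B.left := GeometricallyIntegral.isIntegral_of_subsingleton B.hom
  haveI : Surjective f.left := by
    obtain ⟨m, hm, hm'⟩ := GrothLib.Dim.dim_closure_range_eq f.left B.hom
    refine ⟨fun x => ?_⟩
    have h := GrothLib.Dim.eq_univ_of_dim_le isClosed_closure
      ((hB.trans (hA.symm.trans hm)).trans hm'.symm).le hm'
    rw [f.left.isClosedMap.isClosed_range.closure_eq] at h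
    exact h.ge (Set.mem_univ x)
  haveI : IsLocallyNoetherian B.left := LocallyOfFiniteType.isLocallyNoetherian B.hom
  haveI : Flat f.left := GrothLib.GrpSchField.flat_hom f
  refine (CurveMult.generic_finite_flat f.left ?_).1 b
  obtain ⟨z, hz⟩ := f.left.surjective (genericPoint B.left)
  have h1 : f.left (genericPoint A.left) ⤳ genericPoint B.left :=
    hz ▸ ((genericPoint_spec A.left).specializes trivial).map f.left.continuous
  exact (h1.antisymm ((genericPoint_spec B.left).specializes trivial)).eq

include hA hB in
/-- A homomorphism whose image has full dimension is finite. -/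
theorem isFinite_of_isTop (f : A ⟶ B) [IsMonHom f]
    (h : haveI : IsIntegral A.left := GeometricallyIntegral.isIntegral_of_subsingleton A.hom
      IsTop g (f.left (genericPoint A.left))) : IsFinite f.left := by
  haveI : IsIntegral A.left := GeometricallyIntegral.isIntegral_of_subsingleton A.hom
  haveI : IsProper f.left := by
    have : IsProper (f.left ≫ B.hom) := by rw [Over.w]; infer_instance
    exact IsProper.of_comp f.left B.hom
  letI : A.left.Over (Spec (CommRingCat.of K)) := ⟨A.hom⟩
  letI : B.left.Over (Spec (CommRingCat.of K)) := ⟨B.hom⟩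
  haveI : IsProper (A.left ↘ Spec (CommRingCat.of K)) := ‹IsProper A.hom›
  haveI : IsProper (B.left ↘ Spec (CommRingCat.of K)) := ‹IsProper B.hom›
  have hsub := fibre_subset (k := K) (g := f.left) (Over.w f) hA h
  obtain ⟨d, hd⟩ := Groth.Agent.S7799.result K A B.hom f.left (Over.w f)
  have hd0 : d = 0 := by
    let w := f.left (genericPoint A.left)
    haveI : Subsingleton ↥(f.left.fiber w) := ⟨fun a b => (f.left.fiberHomeo w).injective (Subtype.ext (by
      rw [Set.mem_singleton_iff.1 (hsub ((f.left.fiberHomeo w) a).2), Set.mem_singleton_iff.1 (hsub ((f.left.fiberHomeo w) b).2)]))⟩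
    let z : f.left.fiber w := (f.left.fiberHomeo w).symm ⟨genericPoint A.left, rfl⟩
    have h0 := hd w (irreducibleComponent z) (irreducibleComponent_mem_irreducibleComponents z)
    have hle := topologicalKrullDim_zero_of_discreteTopology (irreducibleComponent z)
    rw [h0] at hle
    exact Nat.le_zero.1 (by exact_mod_cast hle)
  subst hd0
  have : LocallyQuasiFinite f.left := .of_finite_preimage_singleton f.left fun y => by
    let q : f.left.fiber y ⟶ Spec (CommRingCat.of (B.left.residueField y)) := f.left.fiberToSpecResidueField y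
    have : LocallyOfFiniteType q := MorphismProperty.pullback_snd f.left (B.left.fromSpecResidueField y) inferInstance
    have : IsLocallyNoetherian (f.left.fiber y) := LocallyOfFiniteType.isLocallyNoetherian q
    have : IsNoetherian (f.left.fiber y) := {}
    have : Finite ↥(f.left.fiber y) := by
      rw [← Set.finite_univ_iff, show (Set.univ : Set ↥(f.left.fiber y)) =
        ⋃ C ∈ irreducibleComponents ↥(f.left.fiber y), C from (Set.eq_univ_of_forall fun z => Set.mem_biUnion
          (irreducibleComponent_mem_irreducibleComponents z) mem_irreducibleComponent).symm]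
      exact TopologicalSpace.NoetherianSpace.finite_irreducibleComponents.biUnion fun C hC =>
        (Dim.subsingleton_of_dim_eq_zero (isClosed_of_mem_irreducibleComponents C hC) hC.1 (by rw [hd y C hC]; simp)).finite
    rw [← f.left.range_fiberι y]
    exact Set.finite_range _
  exact IsFinite.of_isProper_of_locallyQuasiFinite f.left

/-- The top self-intersection of a class on an abelian variety. -/
abbrev selfIntAV (A : Over (Spec (CommRingCat.of K))) [IsProper A.hom] (g : ℕ) (x : Pic A.left) : ℚ :=
  @selfInt A.left K _ ⟨A.hom⟩ g x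

include hA hB in
/-- The self-intersection of a pulled back class is the degree times that of the class, zero if not finite. -/
theorem selfInt_pull (f : A ⟶ B) [IsMonHom f] {L : B.left.Modules} (hL : CohB1.IsAmple L) :
    (IsFinite f.left → ∀ b : B.left, selfIntAV A g (pull f.left (clsMod hL.1)) =
      (f.left.finrank b : ℚ) * selfIntAV B g (clsMod hL.1)) ∧
      (¬ IsFinite f.left → selfIntAV A g (pull f.left (clsMod hL.1)) = 0) := by
  haveI : IsIntegral A.left := GeometricallyIntegral.isIntegral_of_subsingleton A.hom
  haveI : IsIntegral B.left := GeometricallyIntegral.isIntegral_of_subsingleton B.hom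
  letI : A.left.Over (Spec (CommRingCat.of K)) := ⟨A.hom⟩
  letI : B.left.Over (Spec (CommRingCat.of K)) := ⟨B.hom⟩
  haveI : IsProper (A.left ↘ Spec (CommRingCat.of K)) := ‹IsProper A.hom›
  haveI : IsProper (B.left ↘ Spec (CommRingCat.of K)) := ‹IsProper B.hom›
  have hpull : selfInt K g (pull f.left (clsMod hL.1)) =
      (f.left.residueDegree (genericPoint A.left) : ℚ) *
        mixed g (phi K g (fun _ => L) (ptMod (f.left (genericPoint A.left)))) := by
    have h := mixed_eq_zero (phi_pullback_sub_mem (k := K) (g := f.left) (Over.w f) hA (r := g) (L := fun _ => L)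
      (fun _ => hL.1))
    rw [map_sub, sub_eq_zero, map_nsmul, nsmul_eq_mul] at h
    rw [← clsMod_pullback f.left hL.1, selfInt_clsMod, h]
  refine ⟨fun hf b => ?_, fun hf => ?_⟩
  · have hid := mixed_eq_zero (phi_pullback_sub_mem (k := K) (g := 𝟙 B.left) (Category.id_comp _) hB (r := g)
      (L := fun _ => L) (fun _ => hL.1))
    have hgen : f.left (genericPoint A.left) = genericPoint B.left := by
      obtain ⟨m, hm, hm'⟩ := GrothLib.Dim.dim_closure_range_eq f.left B.hom
      have h := GrothLib.Dim.eq_univ_of_dim_le isClosed_closure ((hB.trans (hA.symm.trans hm)).trans hm'.symm).le hm'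
      rw [f.left.isClosedMap.isClosed_range.closure_eq] at h
      obtain ⟨z, hz⟩ := h.ge (Set.mem_univ (genericPoint B.left))
      have h1 : f.left (genericPoint A.left) ⤳ genericPoint B.left :=
        hz ▸ ((genericPoint_spec A.left).specializes trivial).map f.left.continuous
      exact (h1.antisymm ((genericPoint_spec B.left).specializes trivial)).eq
    have hdeg1 : (𝟙 B.left : B.left ⟶ B.left).residueDegree (genericPoint B.left) = 1 := by
      haveI : IsFinite (𝟙 B : B ⟶ B).left := by rw [Over.id_left]; infer_instance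
      have h1 := finrank_eq_residueDegree hB hB (𝟙 B) (genericPoint B.left)
      rw [Over.id_left] at h1
      exact h1.symm.trans ((Scheme.Hom.isIso_iff_finrank_eq (𝟙 B.left)).1 inferInstance |>.symm ▸ rfl)
    rw [map_sub, sub_eq_zero, map_nsmul, nsmul_eq_mul, hdeg1, Nat.cast_one, _root_.one_mul] at hid
    show selfInt K g _ = _ * selfInt K g _
    rw [hpull, finrank_eq_residueDegree hA hB f b, hgen, selfInt_clsMod]
    congr 1
    have e : phi K g (fun _ => L) (Coh.structureModule B.left) =
        phi K g (fun _ => (Scheme.Modules.pullback (𝟙 B.left)).obj L) (Coh.structureModule B.left) := by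
      funext n
      refine Kleiman.phi_eq_of_cls K (fun _ => hL.1) (fun _ => Ample.isInvertible_pullback _ hL.1) _ ?_
      simp only [clsMod_pullback _ hL.1, pull_id]
    rw [e]
    simpa using hid.symm
  · show selfInt K g _ = 0
    rw [hpull, residueDegree_eq_zero (k := K) (g := f.left) (Over.w f) hA fun h => hf (isFinite_of_isTop hA hB f h),
      Nat.cast_zero, zero_mul]

variable [IsCommMonObj B]

/-- The defect of the pullback of a class. -/
def defectFun (x : Pic B.left) (f h : A ⟶ B) : Pic A.left :=
  pull (f * h).left x * (pull f.left x * pull h.left x)⁻¹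

theorem defectFun_comm (x : Pic B.left) (f h : A ⟶ B) : defectFun x f h = defectFun x h f := by
  rw [defectFun, defectFun, mul_comm f h, mul_comm (pull f.left x)]

theorem defectFun_mul (x : Pic B.left) (f f' h : A ⟶ B) :
    defectFun x (f * f') h = defectFun x f h * defectFun x f' h := by
  have hc := cubeClass_eq_one f f' h x
  rw [cubeClass, mul_inv_eq_one] at hc
  simp only [defectFun]
  apply Additive.ofMul.injective
  have hc' := congrArg Additive.ofMul hc
  simp only [ofMul_mul, ofMul_inv] at hc' ⊢
  rw [← sub_eq_zero] at hc' ⊢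
  rw [← hc']
  abel

/-- The defect, as an additive map in the second variable. -/
def defectHom (x : Pic B.left) (f : A ⟶ B) : Additive (A ⟶ B) →+ Additive (Pic A.left) where
  toFun b := Additive.ofMul (defectFun x f b.toMul)
  map_zero' := by
    have h := defectFun_mul x 1 1 f
    rw [_root_.mul_one, left_eq_mul] at h
    rw [toMul_zero, defectFun_comm, h, ofMul_one]
  map_add' b c := by
    rw [toMul_add, defectFun_comm, defectFun_mul, defectFun_comm x b.toMul, defectFun_comm x c.toMul, ofMul_mul]

theorem defectHom_mul (x : Pic B.left) (f f' : A ⟶ B) (b : Additive (A ⟶ B)) :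
    defectHom x (f * f') b = defectHom x f b + defectHom x f' b :=
  congrArg Additive.ofMul (defectFun_mul x f f' b.toMul)

/-- The biadditive defect of the pullback of a class. -/
def defect (x : Pic B.left) : Additive (A ⟶ B) →ₗ[ℤ] Additive (A ⟶ B) →ₗ[ℤ] Additive (Pic A.left) :=
  let F : Additive (A ⟶ B) →+ (Additive (A ⟶ B) →ₗ[ℤ] Additive (Pic A.left)) :=
    AddMonoidHom.mk' (fun a => (defectHom x a.toMul).toIntLinearMap)
      fun a a' => LinearMap.ext fun b => defectHom_mul x a.toMul a'.toMul b
  F.toIntLinearMap

theorem defect_self {L : B.left.Modules} (hL : CohB1.IsAmple L) (hsym : pull (𝟙 B)⁻¹.left (clsMod hL.1) = clsMod hL.1)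
    (f : A ⟶ B) :
    (defect (clsMod hL.1) (Additive.ofMul f) (Additive.ofMul f)).toMul = pull f.left (clsMod hL.1) ^ 2 := by
  rw [show (defect (clsMod hL.1) (Additive.ofMul f) (Additive.ofMul f)).toMul = defectFun (clsMod hL.1) f f from rfl,
    defectFun]
  rw [← pow_two, show f ^ 2 = f ≫ ((𝟙 B : B ⟶ B) ^ 2) by rw [MonObj.comp_pow, Category.comp_id],
    ← pull_pull_over, pull_pow_of_symmetric hsym, map_pow, ← pow_two, mul_inv_eq_iff_eq_mul, ← pow_add]
  norm_num

include hA hB in
/-- The degree is a homogeneous polynomial of degree `2g` in the coefficients of a combination. -/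
theorem exists_degree_poly {m : ℕ} (f : Fin m → (A ⟶ B)) (hf : ∀ a : Fin m → ℤ, IsMonHom (∏ i, f i ^ a i)) :
    ∃ R : MvPolynomial (Fin m) ℚ, R.IsHomogeneous (2 * g) ∧
      ∀ a : Fin m → ℤ, (IsFinite (∏ i, f i ^ a i).left →
          ∀ b : B.left, ((∏ i, f i ^ a i).left.finrank b : ℚ) = MvPolynomial.eval (fun i => (a i : ℚ)) R) ∧
        (¬ IsFinite (∏ i, f i ^ a i).left → MvPolynomial.eval (fun i => (a i : ℚ)) R = 0) := by
  haveI : IsIntegral A.left := GeometricallyIntegral.isIntegral_of_subsingleton A.hom
  haveI : IsIntegral B.left := GeometricallyIntegral.isIntegral_of_subsingleton B.hom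
  letI : A.left.Over (Spec (CommRingCat.of K)) := ⟨A.hom⟩
  letI : B.left.Over (Spec (CommRingCat.of K)) := ⟨B.hom⟩
  haveI : IsProper (A.left ↘ Spec (CommRingCat.of K)) := ‹IsProper A.hom›
  haveI : IsProper (B.left ↘ Spec (CommRingCat.of K)) := ‹IsProper B.hom›
  obtain ⟨L, hL, ⟨esym⟩⟩ := exists_symmetric_isAmple B
  have hsym : pull (𝟙 B)⁻¹.left (clsMod hL.1) = clsMod hL.1 := by
    rw [← clsMod_pullback _ hL.1]
    exact (clsMod_eq_iff _ hL.1).2 ⟨esym.symm⟩
  let Δ := defect (A := A) (clsMod hL.1)
  let y : Fin (m * m) → Pic A.left := fun p =>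
    (Δ (Additive.ofMul (f (finProdFinEquiv.symm p).1)) (Additive.ofMul (f (finProdFinEquiv.symm p).2))).toMul
  obtain ⟨R, hR, hRval⟩ := exists_selfInt_poly K hA y
  set c := selfInt K g (clsMod hL.1) with hc
  have hcpos : 0 < c := by
    have hsupp : CohB1.support (Coh.structureModule B.left) = Set.univ :=
      Set.eq_univ_of_forall fun x => Kleiman.mem_support_structure x
    rw [hc, selfInt_clsMod]
    exact mixed_pos K g B.left L hL _ (Kleiman.isCoh_O K) (dimLT_structure hB)
      ⟨genericPoint B.left, hsupp ▸ trivial, isTop_genericPoint hB⟩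
  let quad : Fin (m * m) → MvPolynomial (Fin m) ℚ := fun p =>
    MvPolynomial.X (finProdFinEquiv.symm p).1 * MvPolynomial.X (finProdFinEquiv.symm p).2
  refine ⟨MvPolynomial.C (1 / (2 ^ g * c)) * MvPolynomial.aeval quad R,
    zero_add (2 * g) ▸ (MvPolynomial.isHomogeneous_C _ _).mul (hR.aeval quad fun p =>
      (MvPolynomial.isHomogeneous_X _ _).mul (MvPolynomial.isHomogeneous_X _ _)), fun a => ?_⟩
  haveI := hf a
  have hev : MvPolynomial.eval (fun i => (a i : ℚ)) (MvPolynomial.aeval quad R) =
      2 ^ g * selfInt K g (pull (∏ i, f i ^ a i).left (clsMod hL.1)) := by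
    have e1 : MvPolynomial.eval (fun i => (a i : ℚ)) (MvPolynomial.aeval quad R) = MvPolynomial.eval
        (fun p => ((a (finProdFinEquiv.symm p).1 * a (finProdFinEquiv.symm p).2 : ℤ) : ℚ)) R := by
      rw [MvPolynomial.aeval_def, MvPolynomial.eval₂_comp_left (MvPolynomial.eval fun i => (a i : ℚ))]
      have h1 : ((MvPolynomial.eval fun i => (a i : ℚ)).comp (algebraMap ℚ (MvPolynomial (Fin m) ℚ))) = RingHom.id ℚ :=
        RingHom.ext fun r => by simp
      rw [h1]
      show MvPolynomial.eval _ R = _
      congr 1
      refine congrArg _ (_root_.funext fun p => ?_)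
      simp [quad]
    have hprod : ∏ p, y p ^ (a (finProdFinEquiv.symm p).1 * a (finProdFinEquiv.symm p).2) =
        pull (∏ i, f i ^ a i).left (clsMod hL.1) ^ 2 := by
      rw [← defect_self hL hsym, ofMul_prod]
      simp only [ofMul_zpow, map_sum, map_zsmul, LinearMap.sum_apply, LinearMap.smul_apply, toMul_sum, toMul_zsmul]
      rw [← finProdFinEquiv.prod_comp, Fintype.prod_prod_type]
      simp only [Equiv.symm_apply_apply, y]
      rw [Finset.prod_comm]
      refine Finset.prod_congr rfl fun i _ => ?_
      first
        | (rw [← Finset.prod_zpow]; exact Finset.prod_congr rfl fun j _ => by rw [← zpow_mul])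
        | (rw [← Finset.prod_zpow]; exact Finset.prod_congr rfl fun j _ => by rw [← zpow_mul, mul_comm])
    rw [e1, ← hRval, hprod]
    obtain ⟨M, hM, hMcls⟩ := Kodaira.exists_rep (pull (∏ i, f i ^ a i).left (clsMod hL.1))
    rw [← hMcls, ← clsMod_tensorPow hM 2, selfInt_clsMod, selfInt_clsMod,
      mixed_const_pow K hM (Kleiman.isCoh_O K) (dimLT_structure hA)]
    norm_num
  obtain ⟨h1, h2⟩ := selfInt_pull hA hB (∏ i, f i ^ a i) hL
  refine ⟨fun hfin b => ?_, fun hfin => ?_⟩
  · rw [map_mul, MvPolynomial.eval_C, hev, show selfInt K g (pull (∏ i, f i ^ a i).left (clsMod hL.1)) =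
      (((∏ i, f i ^ a i).left.finrank b : ℕ) : ℚ) * c from h1 hfin b]
    field_simp
  · rw [map_mul, hev, show selfInt K g (pull (∏ i, f i ^ a i).left (clsMod hL.1)) = 0 from h2 hfin, mul_zero, mul_zero]

end GrothLib.DegPoly
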