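import Groth.Agent.Lib.DegPoly.Apps

/-!
# An irreducible minimal polynomial determines the characteristic polynomial
-/

universe u

open CategoryTheory CategoryTheory.Limits MonoidalCategory CartesianMonoidalCategory AlgebraicGeometry
open scoped MonObj
open AbDual GrothLib.AbTors Polynomial

set_option backward.isDefEq.respectTransparency false

noncomputable section

namespace GrothLib.DegPoly

/-- Over an algebraically closed field the characteristic polynomial divides a power of any annihilator. -/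
theorem charpoly_dvd_pow {L : Type*} [Field L] [IsAlgClosed L] {J : Type*} [Fintype J] [DecidableEq J]
    {M : Matrix J J L} {G : L[X]} (h : aeval M G = 0) : M.charpoly ∣ G ^ M.charpoly.roots.card := by
  have hroot : ∀ r ∈ M.charpoly.roots, (X - C r) ∣ G := fun r hr => by
    rw [dvd_iff_isRoot]
    by_contra hne
    rcases isEmpty_or_nonempty J with he | he
    · rw [Matrix.charpoly, Matrix.det_isEmpty] at hr
      simp at hr
    have h1 := spectrum.subset_polynomial_aeval M G
      ⟨r, Matrix.mem_spectrum_iff_isRoot_charpoly.2 (isRoot_of_mem_roots hr), rfl⟩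
    rw [h, spectrum.zero_eq] at h1
    exact hne h1
  conv_lhs => rw [(IsAlgClosed.splits M.charpoly).eq_prod_roots_of_monic M.charpoly_monic]
  refine (Multiset.prod_dvd_prod_of_dvd (S := M.charpoly.roots) (fun a => X - C a) (fun _ => G) hroot).trans ?_
  simp

variable {K : Type u} [Field K] {A : Over (Spec (CommRingCat.of K))} [GrpObj A] [IsCommMonObj A]
  [IsProper A.hom] [GeometricallyIntegral A.hom] {Ω : Type u} [Field Ω] [IsAlgClosed Ω]
  (σ : Spec (CommRingCat.of Ω) ⟶ Spec (CommRingCat.of K)) (l : ℕ) [hl : Fact l.Prime]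

/-- The image of the characteristic polynomial over an algebraically closed extension of `ℚ_[l]` divides a power of any
rational annihilator of the endomorphism. -/
theorem map_dvd_pow_of_aeval_eq_zero (hlK : (l : K) ≠ 0) [Module.Free ℤ_[l] (TateMod A l (Over.mk σ))]
    [Module.Finite ℤ_[l] (TateMod A l (Over.mk σ))] (φ : EndAV.End A) {P : ℤ[X]}
    (hP : (EndAV.End.tateRep l (Over.mk σ) φ).charpoly = P.map (Int.castRingHom ℤ_[l]))
    {G : ℤ[X]} (hG : aeval φ G = 0) : ∃ n, P.map (Int.castRingHom ℚ) ∣ (G.map (Int.castRingHom ℚ)) ^ n := by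
  let b := Module.Free.chooseBasis ℤ_[l] (TateMod A l (Over.mk σ))
  let L := AlgebraicClosure ℚ_[l]
  let ψ : ℤ_[l] →+* L := (algebraMap ℚ_[l] L).comp PadicInt.Coe.ringHom
  letI : Algebra ℤ_[l] L := ψ.toAlgebra
  set M := LinearMap.toMatrixAlgEquiv b (EndAV.End.tateRep l (Over.mk σ) φ) with hM
  have hMP : M.charpoly = P.map (Int.castRingHom ℤ_[l]) := (LinearMap.charpoly_toMatrix _ b).trans hP
  have h0 : aeval M (G.map (Int.castRingHom ℤ_[l])) = 0 := by
    rw [hM, show ∀ p : ℤ_[l][X], aeval (LinearMap.toMatrixAlgEquiv b (EndAV.End.tateRep l (Over.mk σ) φ)) p =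
      LinearMap.toMatrixAlgEquiv b (aeval (EndAV.End.tateRep l (Over.mk σ) φ) p) from
      fun p => aeval_algHom_apply (LinearMap.toMatrixAlgEquiv b).toAlgHom _ p, ← HomFG.map_aeval, hG, map_zero,
      map_zero]
  have h1 : aeval (M.map ψ) (G.map (Int.castRingHom L)) = 0 := by
    rw [show G.map (Int.castRingHom L) = (G.map (Int.castRingHom ℤ_[l])).map (algebraMap ℤ_[l] L) by
      rw [Polynomial.map_map, Subsingleton.elim ((algebraMap ℤ_[l] L).comp (Int.castRingHom ℤ_[l])) (Int.castRingHom L)],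
      aeval_map_algebraMap, show M.map ψ = (Algebra.ofId ℤ_[l] L).mapMatrix M from rfl, aeval_algHom_apply, h0,
      map_zero]
  have h2 := charpoly_dvd_pow h1
  rw [Matrix.charpoly_map, hMP, Polynomial.map_map] at h2
  refine ⟨(Polynomial.map (ψ.comp (Int.castRingHom ℤ_[l])) P).roots.card, (Polynomial.map_dvd_map' (algebraMap ℚ L)).1 ?_⟩
  rw [Polynomial.map_pow, Polynomial.map_map, Polynomial.map_map,
    Subsingleton.elim ((algebraMap ℚ L).comp (Int.castRingHom ℚ)) (ψ.comp (Int.castRingHom ℤ_[l]))]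
  rwa [Subsingleton.elim (Int.castRingHom L) (ψ.comp (Int.castRingHom ℤ_[l]))] at h2

/-- An irreducible minimal polynomial gives the characteristic polynomial as a power. -/
theorem charpoly_eq_minpoly_pow (hlK : (l : K) ≠ 0) [Module.Free ℤ_[l] (TateMod A l (Over.mk σ))]
    [Module.Finite ℤ_[l] (TateMod A l (Over.mk σ))] {g : ℕ} (hA : topologicalKrullDim A.left = (g : WithBot ℕ∞))
    (φ : EndAV.End A) (hirr : Irreducible (minpoly ℚ (EndAV.toEnd0 φ))) :
    ∃ P : ℤ[X], (EndAV.End.tateRep l (Over.mk σ) φ).charpoly = P.map (Int.castRingHom ℤ_[l]) ∧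
      P.map (Int.castRingHom ℚ) = minpoly ℚ (EndAV.toEnd0 φ) ^ (2 * g / (minpoly ℚ (EndAV.toEnd0 φ)).natDegree) := by
  obtain ⟨P, hPm, hPd, -, hPc⟩ := exists_int_charpoly_hom σ hA φ.toHom
  have hP : (EndAV.End.tateRep l (Over.mk σ) φ).charpoly = P.map (Int.castRingHom ℤ_[l]) := hPc l hlK
  refine ⟨P, hP, ?_⟩
  haveI : Module.Finite ℤ (EndAV.End A) := HomFG.finite_hom (A := A) (B := A)
  have hint : IsIntegral ℤ φ := Algebra.IsIntegral.isIntegral φ
  set x := EndAV.toEnd0 φ
  have hμ : (minpoly ℚ x).Monic := minpoly.monic ((hint.map EndAV.toEnd0).tower_top (A := ℚ))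
  have hdvd : minpoly ℚ x ∣ (minpoly ℤ φ).map (algebraMap ℤ ℚ) := minpoly.dvd ℚ x (by
    rw [aeval_map_algebraMap, aeval_algHom_apply, minpoly.aeval, map_zero])
  obtain ⟨G, hG⟩ := IsIntegrallyClosed.eq_map_mul_C_of_dvd ℚ (minpoly.monic hint) hdvd
  rw [hμ.leadingCoeff, C_1, _root_.mul_one] at hG
  have hG0 : aeval φ G = 0 := HomFG.toEnd0_injective (A := A) (by
    rw [map_zero, ← aeval_algHom_apply, ← aeval_map_algebraMap ℚ x G, hG, minpoly.aeval])
  obtain ⟨n, hn⟩ := map_dvd_pow_of_aeval_eq_zero σ l hlK φ hP hG0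
  rw [← algebraMap_int_eq, hG] at hn
  obtain ⟨j, -, hj⟩ := (dvd_prime_pow hirr.prime n).1 hn
  have e := eq_of_monic_of_associated (hPm.map _) (hμ.pow j) hj
  have hd := congrArg natDegree e
  rw [hPm.natDegree_map, hPd, hμ.natDegree_pow] at hd
  rw [show Int.castRingHom ℚ = algebraMap ℤ ℚ from rfl, e, hd, Nat.mul_div_cancel _ hirr.natDegree_pos]

end GrothLib.DegPoly
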