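import Groth.Agent.Lib.DegPoly.TangentKer
import Groth.Agent.Lib.DegPoly.Valuation
import Groth.Agent.Lib.AbTors.TorsEquiv

/-!
# Torsion counts and the `p`-rank
-/

universe u

open CategoryTheory CategoryTheory.Limits MonoidalCategory CartesianMonoidalCategory AlgebraicGeometry
open scoped MonObj
open AbDual GrothLib.AbTors

set_option backward.isDefEq.respectTransparency false

noncomputable section

namespace GrothLib.DegPoly

variable {K : Type u} [Field K] {A : Over (Spec (CommRingCat.of K))} [GrpObj A] [IsCommMonObj A]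
  [IsProper A.hom] [GeometricallyIntegral A.hom]

omit [IsProper A.hom] [GeometricallyIntegral A.hom] in
theorem ker_pow_equiv_torsPts (T : Over (Spec (CommRingCat.of K))) (n : ℕ) :
    Nat.card {a : T ⟶ A // a ≫ (𝟙 A : A ⟶ A) ^ n = 1} = Nat.card (torsPts A n T) :=
  Nat.card_congr (Equiv.subtypeEquivRight fun a => by rw [MonObj.comp_pow, Category.comp_id]; rfl)

/-- Geometric points are divisible by every positive integer. -/
theorem exists_root [IsAlgClosed K] {n : ℕ} (hn : n ≠ 0) (a : Over.mk (𝟙 (Spec (CommRingCat.of K))) ⟶ A) :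
    ∃ b : Over.mk (𝟙 (Spec (CommRingCat.of K))) ⟶ A, b ^ n = a := by
  haveI := Cube.surjective_pow A hn
  obtain ⟨x, hx⟩ : ∃ x, ((𝟙 A : A ⟶ A) ^ n).left x = a.left (IsLocalRing.closedPoint K) :=
    ((𝟙 A : A ⟶ A) ^ n).left.surjective _
  haveI := Cube.isFinite_pow A hn
  haveI : JacobsonSpace A.left := LocallyOfFiniteType.jacobsonSpace (Y := Spec _) A.hom
  have hcl : IsClosed ({a.left (IsLocalRing.closedPoint K)} : Set A.left) := by
    haveI : IsClosedImmersion a.left := by
      haveI : IsClosedImmersion (a.left ≫ A.hom) := by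
        rw [Over.w a]; exact MorphismProperty.id_mem @IsClosedImmersion _
      exact IsClosedImmersion.of_comp a.left A.hom
    have h : ({a.left (IsLocalRing.closedPoint K)} : Set A.left) = Set.range a.left := by
      refine Set.Subset.antisymm (fun x hx => ⟨IsLocalRing.closedPoint K, hx.symm⟩) ?_
      rintro _ ⟨y, rfl⟩
      exact congrArg a.left (Subsingleton.elim (α := ↥(Spec (CommRingCat.of K))) _ _)
    rw [h]
    exact a.left.isClosedEmbedding.isClosed_range
  have hfin := IsFinite.finite_preimage_singleton ((𝟙 A : A ⟶ A) ^ n).left (a.left (IsLocalRing.closedPoint K))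
  obtain ⟨y, hy, hyc⟩ : ∃ y, ((𝟙 A : A ⟶ A) ^ n).left y = a.left (IsLocalRing.closedPoint K) ∧
      IsClosed ({y} : Set A.left) := by
    obtain ⟨y, hy, hyc⟩ := nonempty_inter_closedPoints (Z := ((𝟙 A : A ⟶ A) ^ n).left ⁻¹' {a.left (IsLocalRing.closedPoint K)})
      ⟨x, hx⟩ (hcl.preimage ((𝟙 A : A ⟶ A) ^ n).left.continuous).isLocallyClosed
    exact ⟨y, hy, hyc⟩
  obtain ⟨ι', t, ht⟩ := exists_geomPt (𝟙 (Spec (CommRingCat.of K))) y hyc
  refine ⟨t, ?_⟩
  have hrat : ∀ s s' : Over.mk (𝟙 (Spec (CommRingCat.of K))) ⟶ A,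
      s.left (IsLocalRing.closedPoint K) = s'.left (IsLocalRing.closedPoint K) → s = s' := fun s s' h =>
    Over.OverMorphism.ext (ext_of_apply_closedPoint_eq A.hom (Over.w s) (Over.w s') h)
  refine hrat _ _ ?_
  rw [← pow_comp_eq]
  show ((𝟙 A : A ⟶ A) ^ n).left (t.left (IsLocalRing.closedPoint K)) = _
  rw [ht]
  show ((𝟙 A : A ⟶ A) ^ n).left (A.left.fromSpecResidueField y _) = _
  rw [Scheme.fromSpecResidueField_apply, hy]

theorem finrank_pow_ne (n : ℕ) (hn : n ≠ 0) {g : ℕ} (hA : topologicalKrullDim A.left = (g : WithBot ℕ∞))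
    (y : A.left) : Scheme.Hom.finrank ((𝟙 A : A ⟶ A) ^ n).left y = n ^ (2 * g) := finrank_pow A hA hn y

variable [IsAlgClosed K] {g : ℕ} (hA : topologicalKrullDim A.left = (g : WithBot ℕ∞))

include hA in
/-- The number of `n`-torsion points divides `n ^ (2g)`. -/
theorem card_torsPts_dvd (n : ℕ) (hn : n ≠ 0) :
    Nat.card (torsPts A n (Over.mk (𝟙 (Spec (CommRingCat.of K))))) ∣ n ^ (2 * g) := by
  haveI := Cube.isFinite_pow A hn
  haveI := Cube.flat_pow A hn
  haveI : IsLocallyNoetherian A.left := LocallyOfFiniteType.isLocallyNoetherian A.hom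
  haveI : LocallyOfFinitePresentation ((𝟙 A : A ⟶ A) ^ n).left := inferInstance
  haveI : IsMonHom ((𝟙 A : A ⟶ A) ^ n) := GrpDeligne.isMonHom_pow _ n
  have h := card_ker_dvd ((𝟙 A : A ⟶ A) ^ n)
  rwa [finrank_pow A hA hn, ker_pow_equiv_torsPts] at h

include hA in
/-- At most `p ^ g` points are killed by the characteristic. -/
theorem card_torsPts_char_le (p : ℕ) [hp : Fact p.Prime] [CharP K p] :
    Nat.card (torsPts A p (Over.mk (𝟙 (Spec (CommRingCat.of K))))) ≤ p ^ g := by
  haveI := Cube.isFinite_pow A hp.out.ne_zero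
  haveI := Cube.flat_pow A hp.out.ne_zero
  haveI : IsLocallyNoetherian A.left := LocallyOfFiniteType.isLocallyNoetherian A.hom
  haveI : LocallyOfFinitePresentation ((𝟙 A : A ⟶ A) ^ p).left := inferInstance
  have h := card_ker_pow_char_le hA p
  rw [finrank_pow A hA hp.out.ne_zero, ker_pow_equiv_torsPts, two_mul, pow_add] at h
  exact Nat.le_of_mul_le_mul_right h (pow_pos hp.out.pos g)

include hA in
theorem card_torsPts_eq_iff {n : ℕ} (hn : n ≠ 0) (hg : 0 < g) :
    Nat.card (torsPts A n (Over.mk (𝟙 (Spec (CommRingCat.of K))))) = n ^ (2 * g) ↔ (n : K) ≠ 0 := by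
  constructor
  · intro h h0
    obtain ⟨p, hp⟩ := CharP.exists K
    have hdvd : p ∣ n := (CharP.cast_eq_zero_iff K p n).1 h0
    have hp' : p.Prime := by
      rcases CharP.char_is_prime_or_zero K p with hp' | hp'
      · exact hp'
      · subst hp'; exact absurd (Nat.eq_zero_of_zero_dvd hdvd) hn
    haveI := Fact.mk hp'
    obtain ⟨m, rfl⟩ := hdvd
    have hm : m ≠ 0 := fun hm => hn (by rw [hm, Nat.mul_zero])
    let T : Over (Spec (CommRingCat.of K)) := Over.mk (𝟙 (Spec (CommRingCat.of K)))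
    have hfin : ∀ k : ℕ, k ≠ 0 → Finite (torsPts A k T) := fun k hk => Nat.finite_of_card_ne_zero
      (ne_zero_of_dvd_ne_zero (pow_ne_zero _ hk) (card_torsPts_dvd hA k hk))
    haveI := hfin _ hn
    haveI := hfin _ hp'.ne_zero
    haveI := hfin _ hm
    let φ : torsPts A (p * m) T →* torsPts A m T :=
      { toFun := fun a => ⟨a.1 ^ p, by
          rw [mem_torsPts, ← pow_mul]
          exact a.2⟩
        map_one' := Subtype.ext (one_pow p)
        map_mul' := fun a b => Subtype.ext (_root_.mul_pow a.1 b.1 p) }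
    have hker : Nat.card φ.ker ≤ p ^ g := by
      refine le_trans (Nat.card_le_card_of_injective (fun a : φ.ker => (⟨a.1.1, congrArg Subtype.val a.2⟩ : torsPts A p T))
        fun a b h => Subtype.ext (Subtype.ext (congrArg (fun t : torsPts A p T => t.1) h))) (card_torsPts_char_le hA p)
    have hran : Nat.card φ.range ≤ m ^ (2 * g) :=
      (Nat.card_le_card_of_injective _ Subtype.val_injective).trans
        (Nat.le_of_dvd (pow_pos (Nat.pos_of_ne_zero hm) _) (card_torsPts_dvd hA m hm))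
    have hsplit : Nat.card (torsPts A (p * m) T) = Nat.card φ.ker * Nat.card φ.range := by
      rw [φ.ker.card_eq_card_quotient_mul_card_subgroup,
        Nat.card_congr (QuotientGroup.quotientKerEquivRange φ).toEquiv, Nat.mul_comm]
    rw [h] at hsplit
    have h3 : (p * m) ^ (2 * g) ≤ p ^ g * m ^ (2 * g) := hsplit.le.trans (Nat.mul_le_mul hker hran)
    rw [Nat.mul_pow] at h3
    have h4 := Nat.le_of_mul_le_mul_right h3 (pow_pos (Nat.pos_of_ne_zero hm) _)
    exact absurd h4 (not_le.2 (Nat.pow_lt_pow_right hp'.one_lt (by omega)))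
  · intro h
    obtain ⟨e⟩ := nonempty_torsPts_equiv A (𝟙 (Spec (CommRingCat.of K))) hA h
    haveI : NeZero n := ⟨hn⟩
    rw [Nat.card_congr (e.toEquiv.trans Multiplicative.toAdd), Nat.card_fun, Nat.card_zmod, Nat.card_fin]

include hA in
/-- The `p`-rank. -/
theorem exists_pRank (p : ℕ) [hp : Fact p.Prime] [CharP K p] :
    ∃ i : ℕ, i ≤ g ∧ ∀ m : ℕ,
      Nonempty (torsPts A (p ^ m) (Over.mk (𝟙 (Spec (CommRingCat.of K)))) ≃* Multiplicative (Fin i → ZMod (p ^ m))) := by
  let T : Over (Spec (CommRingCat.of K)) := Over.mk (𝟙 (Spec (CommRingCat.of K)))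
  haveI : Finite (torsPts A p T) := Nat.finite_of_card_ne_zero
    (ne_zero_of_dvd_ne_zero (pow_ne_zero _ hp.out.ne_zero) (card_torsPts_dvd hA p hp.out.ne_zero))
  haveI := finite_nTors A p T
  obtain ⟨r, hr, he⟩ := nonempty_nTors_pow_equiv (Additive (T ⟶ A)) p fun x => by
    obtain ⟨b, hb⟩ := exists_root hp.out.ne_zero x.toMul
    exact ⟨Additive.ofMul b, congrArg Additive.ofMul hb⟩
  refine ⟨r, ?_, fun m => (he m).map fun e => (torsPtsEquiv A (p ^ m) T).trans (AddEquiv.toMultiplicative e)⟩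
  have h := card_torsPts_char_le hA p
  rw [Nat.card_congr ((torsPtsEquiv A p T).toEquiv.trans Multiplicative.toAdd), hr] at h
  exact (Nat.pow_le_pow_iff_right hp.out.one_lt).1 h

end GrothLib.DegPoly

namespace GrothLib.DegPoly

variable {K : Type u} [Field K] {X Y : Over (Spec (CommRingCat.of K))} [GrpObj X] [IsCommMonObj X] [GrpObj Y]
  [IsCommMonObj Y] {Ω : Type u} [Field Ω] [IsAlgClosed Ω]
  (σ : Spec (CommRingCat.of Ω) ⟶ Spec (CommRingCat.of K))

/-- A homomorphism with finite kernel cannot lower the `p`-rank. -/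
theorem pRank_le_of_isFinite (p : ℕ) [hp : Fact p.Prime] (h : X ⟶ Y) [IsMonHom h] [IsFinite h.left] {i j : ℕ}
    (hi : ∀ m : ℕ, Nonempty (torsPts X (p ^ m) (Over.mk σ) ≃* Multiplicative (Fin i → ZMod (p ^ m))))
    (hj : ∀ m : ℕ, Nonempty (torsPts Y (p ^ m) (Over.mk σ) ≃* Multiplicative (Fin j → ZMod (p ^ m)))) : i ≤ j := by
  haveI := (finite_ker_pts σ h).to_subtype
  set C := Nat.card {a : Over.mk σ ⟶ X | a ≫ h = 1}
  have hcard : ∀ (Z : Over (Spec (CommRingCat.of K))) [GrpObj Z] [IsCommMonObj Z] (r : ℕ),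
      (∀ m : ℕ, Nonempty (torsPts Z (p ^ m) (Over.mk σ) ≃* Multiplicative (Fin r → ZMod (p ^ m)))) →
      ∀ m, Nat.card (torsPts Z (p ^ m) (Over.mk σ)) = (p ^ m) ^ r := fun Z _ _ r hr m => by
    obtain ⟨e⟩ := hr m
    rw [Nat.card_congr (e.toEquiv.trans Multiplicative.toAdd), Nat.card_fun, Nat.card_zmod, Nat.card_fin]
  by_contra hlt
  let m := C
  haveI : Finite (torsPts X (p ^ m) (Over.mk σ)) := Nat.finite_of_card_ne_zero (by
    rw [hcard X i hi]; exact pow_ne_zero _ (pow_ne_zero _ hp.out.ne_zero))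
  haveI : Finite (torsPts Y (p ^ m) (Over.mk σ)) := Nat.finite_of_card_ne_zero (by
    rw [hcard Y j hj]; exact pow_ne_zero _ (pow_ne_zero _ hp.out.ne_zero))
  let φ : torsPts X (p ^ m) (Over.mk σ) →* torsPts Y (p ^ m) (Over.mk σ) :=
    { toFun := fun a => ⟨a.1 ≫ h, by rw [mem_torsPts, ← MonObj.pow_comp, show a.1 ^ p ^ m = 1 from a.2, MonObj.one_comp]⟩
      map_one' := Subtype.ext (MonObj.one_comp h)
      map_mul' := fun a b => Subtype.ext (MonObj.mul_comp a.1 b.1 h) }
  have hker : Nat.card φ.ker ≤ C := Nat.card_le_card_of_injective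
    (fun a : φ.ker => (⟨a.1.1, congrArg Subtype.val a.2⟩ : {a : Over.mk σ ⟶ X | a ≫ h = 1}))
    fun a b e => Subtype.ext (Subtype.ext (congrArg (fun t : {a : Over.mk σ ⟶ X | a ≫ h = 1} => t.1) e))
  have hran : Nat.card φ.range ≤ (p ^ m) ^ j :=
    (Nat.card_le_card_of_injective _ Subtype.val_injective).trans_eq (hcard Y j hj m)
  have hsplit : Nat.card (torsPts X (p ^ m) (Over.mk σ)) = Nat.card φ.ker * Nat.card φ.range := by
    rw [φ.ker.card_eq_card_quotient_mul_card_subgroup,
      Nat.card_congr (QuotientGroup.quotientKerEquivRange φ).toEquiv, Nat.mul_comm]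
  rw [hcard X i hi] at hsplit
  have h3 : (p ^ m) ^ i ≤ C * (p ^ m) ^ j := hsplit.le.trans (Nat.mul_le_mul hker hran)
  have h4 : (p ^ m) ^ (j + 1) ≤ (p ^ m) ^ i := Nat.pow_le_pow_right (pow_pos hp.out.pos m) (by omega)
  rw [pow_succ'] at h4
  have h5 : p ^ m ≤ C := Nat.le_of_mul_le_mul_right (h4.trans h3) (pow_pos (pow_pos hp.out.pos m) j)
  exact absurd h5 (not_le.2 (Nat.lt_pow_self hp.out.one_lt))

/-- The `p`-rank is an isogeny invariant. -/
theorem pRank_eq_of_isogeny [IsProper X.hom] [GeometricallyIntegral X.hom] [IsProper Y.hom]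
    [GeometricallyIntegral Y.hom] (p : ℕ) [Fact p.Prime] (h : X ⟶ Y) [IsMonHom h] [IsFinite h.left]
    [Surjective h.left] {i j : ℕ}
    (hi : ∀ m : ℕ, Nonempty (torsPts X (p ^ m) (Over.mk σ) ≃* Multiplicative (Fin i → ZMod (p ^ m))))
    (hj : ∀ m : ℕ, Nonempty (torsPts Y (p ^ m) (Over.mk σ) ≃* Multiplicative (Fin j → ZMod (p ^ m)))) : i = j := by
  obtain ⟨n, k, hn, hk, e, -⟩ := GrpDeligne.exists_dual_hom_of_surjective X Y h
  haveI := hk
  haveI : IsIntegral X.left := GeometricallyIntegral.isIntegral_of_subsingleton X.hom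
  obtain ⟨g, hX, hY'⟩ := GrothLib.Dim.dim_closure_range_eq h.left Y.hom
  have hY : topologicalKrullDim Y.left = (g : WithBot ℕ∞) := by
    rw [h.left.surjective.range_eq, closure_univ] at hY'
    rw [← IsHomeomorph.topologicalKrullDim_eq _ (Homeomorph.Set.univ Y.left).isHomeomorph, hY']
  haveI : IsIntegral Y.left := GeometricallyIntegral.isIntegral_of_subsingleton Y.hom
  haveI := (degree_comp_eq hX hY hn.ne' e (genericPoint Y.left) (genericPoint X.left)).1
  exact le_antisymm (pRank_le_of_isFinite σ p h hi hj) (pRank_le_of_isFinite σ p k hj hi)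

end GrothLib.DegPoly
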