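import Groth.Agent.Lib.Kleiman.Kleiman
import Groth.Agent.Lib.HodgeIndex.Form
import Mathlib.Algebra.MvPolynomial.Funext
import Mathlib.RingTheory.MvPolynomial.Homogeneous

/-!
# Top self-intersection numbers are homogeneous polynomials in the exponents
-/

set_option linter.style.haveILetI false

universe u

open CategoryTheory CategoryTheory.Limits AlgebraicGeometry TopologicalSpace

noncomputable section

namespace GrothLib.DegPoly

open GrothLib.Snapper
open GrothLib.Cube (Pic clsMod)
open GrothLib.HodgeIndex (rep isInv_rep cls_rep)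

/-- The top homogeneous part of a polynomial function, along lines. -/
theorem exists_top {N g : ℕ} {p : (Fin N → ℕ) → ℚ} (hp : p ∈ polyLT N (g + 1)) :
    ∃ Q : MvPolynomial (Fin N) ℚ, Q.IsHomogeneous g ∧ ∀ w : Fin N → ℕ,
      (p ∘ fun t : Fin 1 → ℕ => fun i => w i * t 0) -
        MvPolynomial.eval (fun i => (w i : ℚ)) Q • mono (fun _ : Fin 1 => g) ∈ polyLT 1 g := by
  have hline : ∀ (m : Fin N → ℕ) (w : Fin N → ℕ), (mono m ∘ fun t : Fin 1 → ℕ => fun i => w i * t 0) =
      (∏ i, (w i : ℚ) ^ m i) • mono (fun _ : Fin 1 => ∑ i, m i) := fun m w => by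
    funext t
    simp [mono, mul_pow, Finset.prod_mul_distrib, Finset.prod_pow_eq_pow_sum]
  induction hp using Submodule.span_induction with
  | mem f hf =>
    obtain ⟨m, hm, rfl⟩ := hf
    by_cases hg : ∑ i, m i = g
    · refine ⟨MvPolynomial.monomial (Finsupp.equivFunOnFinite.symm m) 1,
        MvPolynomial.isHomogeneous_monomial _ (by rw [Finsupp.degree_eq_sum]; simpa using hg), fun w => ?_⟩
      rw [hline, hg, MvPolynomial.eval_monomial, one_mul, Finsupp.prod_fintype _ _ (fun i => pow_zero _)]
      simp only [Finsupp.equivFunOnFinite_symm_apply_apply, sub_self]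
      exact Submodule.zero_mem _
    · refine ⟨0, MvPolynomial.isHomogeneous_zero _ _ _, fun w => ?_⟩
      rw [map_zero, zero_smul, sub_zero, hline]
      refine Submodule.smul_mem _ _ (mono_mem ?_)
      have hm' : ∑ i, m i < g + 1 := hm
      rw [Fin.sum_univ_one]
      omega
  | zero => exact ⟨0, MvPolynomial.isHomogeneous_zero _ _ _, fun w => by simp⟩
  | add f f' _ _ hf hf' =>
    obtain ⟨Q, hQ, h⟩ := hf
    obtain ⟨Q', hQ', h'⟩ := hf'
    refine ⟨Q + Q', hQ.add hQ', fun w => ?_⟩
    have := Submodule.add_mem _ (h w) (h' w)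
    rw [map_add, add_smul]
    convert this using 1
    funext t
    simp [sub_add_sub_comm]
  | smul a f _ hf =>
    obtain ⟨Q, hQ, h⟩ := hf
    refine ⟨MvPolynomial.C a * Q, by simpa using (MvPolynomial.isHomogeneous_C _ a).mul hQ, fun w => ?_⟩
    have := Submodule.smul_mem _ a (h w)
    rw [map_mul, MvPolynomial.eval_C, mul_smul]
    convert this using 1
    funext t
    simp [mul_sub]

variable {X : Scheme.{u}} (k : Type u) [Field k] [X.Over (Spec (CommRingCat.of k))]

/-- The self-intersection number of a class in dimension `d`. -/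
def selfInt (d : ℕ) (x : Pic X) : ℚ := mixed d (phi k d (fun _ => rep x) (Coh.structureModule X))

theorem selfInt_clsMod {L : X.Modules} (hL : PicF.IsInvertible L) (d : ℕ) :
    selfInt k d (clsMod hL) = mixed d (phi k d (fun _ => L) (Coh.structureModule X)) := by
  rw [selfInt]
  congr 1
  funext n
  exact Kleiman.phi_eq_of_cls k (fun _ => isInv_rep _) (fun _ => hL) _ (by simp only [cls_rep])

variable [IsProper (X ↘ Spec (CommRingCat.of k))] {g : ℕ} (hX : topologicalKrullDim X = (g : WithBot ℕ∞))

include hX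

theorem dimLT_structure : DimLT (CohB1.support (Coh.structureModule X)) (g + 1) :=
  (dimLT_of_dim_le ((IsHomeomorph.topologicalKrullDim_eq _ (Homeomorph.Set.univ X).isHomeomorph).trans hX).le).mono
    (Set.subset_univ _)

theorem exists_selfInt_poly_nat {N : ℕ} (y : Fin N → Pic X) :
    ∃ Q : MvPolynomial (Fin N) ℚ, Q.IsHomogeneous g ∧ ∀ w : Fin N → ℕ,
      selfInt k g (∏ i, y i ^ w i) = MvPolynomial.eval (fun i => (w i : ℚ)) Q := by
  haveI := Euler.isNoetherian_of_proper (X := X) k
  obtain ⟨Q, hQ, h⟩ := exists_top (phi_mem_polyLT k (r := N) (L := fun i => rep (y i)) (fun i => isInv_rep _) (g + 1)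
    (Coh.structureModule X) (Kleiman.isCoh_O k) (dimLT_structure hX))
  refine ⟨MvPolynomial.C (g.factorial : ℚ) * Q, zero_add g ▸ (MvPolynomial.isHomogeneous_C _ _).mul hQ, fun w => ?_⟩
  have he : phi k 1 (fun _ => rep (∏ i, y i ^ w i)) (Coh.structureModule X) =
      phi k N (fun i => rep (y i)) (Coh.structureModule X) ∘ fun t : Fin 1 → ℕ => fun i => w i * t 0 := by
    funext t
    refine Kleiman.phi_eq_of_cls k (fun _ => isInv_rep _) (fun i => isInv_rep _) _ ?_
    simp only [cls_rep, Fin.prod_univ_one, pow_mul, ← Finset.prod_pow]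
  rw [selfInt, phi_const_comp, he, mixed_comp_sumArg (h w), map_mul, MvPolynomial.eval_C, mul_comm]

/-- The self-intersection number is homogeneous of degree `g` in integral exponents. -/
theorem exists_selfInt_poly {N : ℕ} (y : Fin N → Pic X) :
    ∃ R : MvPolynomial (Fin N) ℚ, R.IsHomogeneous g ∧ ∀ e : Fin N → ℤ,
      selfInt k g (∏ i, y i ^ e i) = MvPolynomial.eval (fun i => (e i : ℚ)) R := by
  obtain ⟨Q, hQ, h⟩ := exists_selfInt_poly_nat k hX (Fin.append y fun i => (y i)⁻¹)
  have hval : ∀ a b : Fin N → ℕ, MvPolynomial.eval (Fin.append (fun i => (a i : ℚ)) fun i => (b i : ℚ)) Q =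
      selfInt k g (∏ i, y i ^ ((a i : ℤ) - b i)) := fun a b => by
    rw [show (Fin.append (fun i => (a i : ℚ)) fun i => (b i : ℚ)) = fun i => ((Fin.append a b i : ℕ) : ℚ) from
      funext fun i => Fin.addCases (fun j => by simp) (fun j => by simp [-Fin.natAdd_eq_addNat]) i, ← h, Fin.prod_univ_add]
    congr 1
    simp only [Fin.append_left, Fin.append_right, zpow_sub, zpow_natCast, inv_pow, Finset.prod_mul_distrib]
  refine ⟨MvPolynomial.aeval (Fin.append (fun i => (MvPolynomial.X i : MvPolynomial (Fin N) ℚ)) 0) Q, ?_, fun e => ?_⟩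
  · exact one_mul g ▸ hQ.aeval (Fin.append (fun i => (MvPolynomial.X i : MvPolynomial (Fin N) ℚ)) 0) fun i =>
      Fin.addCases (fun j => by rw [Fin.append_left]; exact MvPolynomial.isHomogeneous_X _ j)
        (fun j => by rw [Fin.append_right]; exact MvPolynomial.isHomogeneous_zero _ _ 1) i
  -- shifting both halves does not change the polynomial
  let V : Fin 3 → Fin N → MvPolynomial (Fin 3 × Fin N) ℚ := fun s i => MvPolynomial.X (s, i)
  have hshift : MvPolynomial.aeval (Fin.append (V 0 + V 2) (V 1 + V 2)) Q =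
      MvPolynomial.aeval (Fin.append (V 0) (V 1)) Q := by
    refine MvPolynomial.funext_set (fun _ => Set.range ((↑) : ℕ → ℚ))
      (fun _ => Set.infinite_range_of_injective Nat.cast_injective) fun x hx => ?_
    choose n hn using fun s : Fin 3 × Fin N => hx s (Set.mem_univ s)
    obtain rfl : x = fun s => (n s : ℚ) := funext fun s => (hn s).symm
    have hev : ∀ v : Fin (N + N) → MvPolynomial (Fin 3 × Fin N) ℚ,
        MvPolynomial.eval (fun s => (n s : ℚ)) (MvPolynomial.aeval v Q) =
          MvPolynomial.eval (fun i => MvPolynomial.eval (fun s => (n s : ℚ)) (v i)) Q := fun v => by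
      rw [MvPolynomial.aeval_def, MvPolynomial.eval₂_comp_left (MvPolynomial.eval fun s => (n s : ℚ))]
      congr 1
      exact RingHom.ext fun r => by simp
    rw [hev, hev, show (fun i => MvPolynomial.eval (fun s => (n s : ℚ)) (Fin.append (V 0 + V 2) (V 1 + V 2) i)) =
        Fin.append (fun i => ((n (0, i) + n (2, i) : ℕ) : ℚ)) fun i => ((n (1, i) + n (2, i) : ℕ) : ℚ) from
        funext fun i => Fin.addCases (fun j => by simp [V, -Fin.natAdd_eq_addNat]) (fun j => by simp [V, -Fin.natAdd_eq_addNat]) i, hval,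
      show (fun i => MvPolynomial.eval (fun s => (n s : ℚ)) (Fin.append (V 0) (V 1) i)) =
        Fin.append (fun i => ((n (0, i) : ℕ) : ℚ)) fun i => ((n (1, i) : ℕ) : ℚ) from
        funext fun i => Fin.addCases (fun j => by simp [V, -Fin.natAdd_eq_addNat]) (fun j => by simp [V, -Fin.natAdd_eq_addNat]) i, hval]
    congr 1
    refine Finset.prod_congr rfl fun i _ => congrArg _ ?_
    push_cast
    ring
  -- evaluate at the positive and negative parts
  let a : Fin N → ℕ := fun i => (e i).toNat
  let b : Fin N → ℕ := fun i => (-e i).toNat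
  have hev : ∀ {σ : Type} (x : σ → ℚ) (v : Fin (N + N) → MvPolynomial σ ℚ),
      MvPolynomial.eval x (MvPolynomial.aeval v Q) = MvPolynomial.eval (fun i => MvPolynomial.eval x (v i)) Q :=
    fun x v => by
      rw [MvPolynomial.aeval_def, MvPolynomial.eval₂_comp_left (MvPolynomial.eval x)]
      congr 1
      exact RingHom.ext fun r => by simp
  have h2 := congrArg (MvPolynomial.eval fun s : Fin 3 × Fin N =>
    (![fun i => (a i : ℚ), fun i => (b i : ℚ), fun i => -(b i : ℚ)] s.1) s.2) hshift
  rw [hev, hev] at h2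
  rw [hev, show (fun i => MvPolynomial.eval (fun i => (e i : ℚ))
      (Fin.append (fun i => (MvPolynomial.X i : MvPolynomial (Fin N) ℚ)) 0 i)) =
    fun i => MvPolynomial.eval (fun s : Fin 3 × Fin N =>
      (![fun i => (a i : ℚ), fun i => (b i : ℚ), fun i => -(b i : ℚ)] s.1) s.2)
        (Fin.append (V 0 + V 2) (V 1 + V 2) i) from funext fun i => Fin.addCases (fun j => by
      simp only [Fin.append_left, Pi.add_apply, V, map_add, MvPolynomial.eval_X]
      simp only [Matrix.cons_val_zero, Matrix.cons_val_two, Matrix.tail_cons, Matrix.head_cons]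
      have := Int.toNat_sub_toNat_neg (e j)
      exact_mod_cast this.symm.trans (sub_eq_add_neg _ _)) (fun j => by
      simp only [Fin.append_right, Pi.add_apply, V, map_add, MvPolynomial.eval_X]
      simp) i, h2,
    show (fun i => MvPolynomial.eval (fun s : Fin 3 × Fin N =>
      (![fun i => (a i : ℚ), fun i => (b i : ℚ), fun i => -(b i : ℚ)] s.1) s.2) (Fin.append (V 0) (V 1) i)) =
      Fin.append (fun i => (a i : ℚ)) fun i => (b i : ℚ) from
      funext fun i => Fin.addCases (fun j => by simp [V, -Fin.natAdd_eq_addNat]) (fun j => by simp [V, -Fin.natAdd_eq_addNat]) i, hval]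
  congr 1
  refine Finset.prod_congr rfl fun i _ => congrArg _ ?_
  exact (Int.toNat_sub_toNat_neg (e i)).symm

end GrothLib.DegPoly
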