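import Groth.Agent.Lib.DegPoly.KerCount
import Groth.Agent.Lib.HopfAG.Finite
import Groth.Agent.Lib.AbMul.Tangent
import Groth.Agent.Lib.AbMul.CurveTangent
import Groth.Agent.Lib.GrpSchField.DimStalk
import Groth.Agent.Lib.GrpSchField.SmoothRegular
import Groth.Agent.Lib.Cube.AbVar

/-!
# The tangent space of the kernel of multiplication by the characteristic
-/

universe u

open CategoryTheory Limits MonoidalCategory CartesianMonoidalCategory MonObj GrpObj AlgebraicGeometry
open IsLocalRing
open scoped CategoryTheory.Obj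

set_option backward.isDefEq.respectTransparency false

noncomputable section

namespace GrothLib.DegPoly

section Hopf

variable {K : Type u} [Field K] [IsAlgClosed K] {H : Type u} [CommRing H] [HopfAlgebra K H] [Module.Finite K H]

open GrothLib.Hopf GrothLib.Hopf.HeightOne GrothLib.Hopf.FiniteRank in
/-- The rank is the number of points times the rank of the local piece. -/
theorem finrank_eq_card_mul {N : ℕ} (hnilN : nilradical H ^ N = ⊥) :
    Module.finrank K H = Nat.card (H →ₐ[K] K) * Module.finrank K (H ⧸ aug K H ^ N) := by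
  classical
  haveI : Nontrivial H := (Bialgebra.counitAlgHom K H).toRingHom.domain_nontrivial
  haveI : ∀ g : H →ₐ[K] K, (RingHom.ker g).IsMaximal := fun g =>
    RingHom.ker_isMaximal_of_surjective g fun c => ⟨algebraMap K H c, g.commutes c⟩
  haveI := Hopf.OrderPrime.finite_points (K := K) (A := H)
  haveI := Fintype.ofFinite (H →ₐ[K] K)
  have kinj : ∀ g h : H →ₐ[K] K, RingHom.ker g = RingHom.ker h → g = h := fun g h hk => by
    refine AlgHom.ext fun a => ?_
    have ha : a - algebraMap K H (g a) ∈ RingHom.ker g := by simp [RingHom.mem_ker]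
    rw [hk, RingHom.mem_ker, map_sub, AlgHom.commutes, sub_eq_zero] at ha
    exact ha.symm
  let F : H →ₗ[K] ∀ g : H →ₐ[K] K, H ⧸ RingHom.ker g ^ N :=
    LinearMap.pi fun g => (Ideal.Quotient.mkₐ K _).toLinearMap
  have hcop : Pairwise fun g h : H →ₐ[K] K => IsCoprime (RingHom.ker g ^ N) (RingHom.ker h ^ N) := by
    intro g h hgh
    refine IsCoprime.pow ?_
    rw [Ideal.isCoprime_iff_sup_eq]
    exact Ideal.IsMaximal.coprime_of_ne inferInstance inferInstance fun hk => hgh (kinj g h hk)
  have hinj : Function.Injective F := by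
    rw [injective_iff_map_eq_zero]
    intro x hx
    have hx' : x ∈ ⨅ g : H →ₐ[K] K, RingHom.ker g ^ N := by
      simp only [Ideal.mem_iInf]
      exact fun g => Ideal.Quotient.eq_zero_iff_mem.mp (congrFun hx g)
    have hle : (⨅ g : H →ₐ[K] K, RingHom.ker g ^ N) ≤ ⊥ := by
      have h0 := Ideal.prod_eq_iInf_of_pairwise_isCoprime (s := Finset.univ)
        (J := fun g : H →ₐ[K] K => RingHom.ker g ^ N) (fun g _ h _ hgh => hcop hgh)
      rw [show (⨅ g : H →ₐ[K] K, RingHom.ker g ^ N) = ∏ g : H →ₐ[K] K, RingHom.ker g ^ N by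
        rw [h0]; simp, Finset.prod_pow]
      refine (Ideal.pow_right_mono ?_ N).trans hnilN.le
      intro y hy
      exact isNilpotent_of_forall_point (K := K) fun g =>
        (Ideal.prod_le_inf.trans (Finset.inf_le (Finset.mem_univ g))) hy
    exact (Ideal.mem_bot).mp (hle hx')
  have hsurj : Function.Surjective F := by
    intro y
    obtain ⟨x, hx⟩ := Ideal.quotientInfToPiQuotient_surj hcop y
    obtain ⟨x, rfl⟩ := Ideal.Quotient.mk_surjective x
    exact ⟨x, hx⟩
  rw [LinearEquiv.finrank_eq (LinearEquiv.ofBijective F ⟨hinj, hsurj⟩), Module.finrank_pi_fintype]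
  have heq : ∀ g : H →ₐ[K] K,
      Module.finrank K (H ⧸ RingHom.ker g ^ N) = Module.finrank K (H ⧸ aug K H ^ N) := fun g => by
    refine LinearEquiv.finrank_eq (Ideal.quotientEquivAlg _ _ (shiftEquiv (WithConv.toConv g)) ?_).toLinearEquiv
    rw [Ideal.map_pow]
    congr 1
    have hk : RingHom.ker g = (aug K H).comap (shiftEquiv (WithConv.toConv g) : H ≃ₐ[K] H).toAlgHom := by
      ext a
      rw [Ideal.mem_comap, RingHom.mem_ker]
      change _ ↔ Bialgebra.counitAlgHom K H (shift (WithConv.toConv g) a) = 0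
      have h := DFunLike.congr_fun (congrArg WithConv.ofConv
        (point_comp_shift (WithConv.toConv g) (1 : WithConv (H →ₐ[K] K)))) a
      rw [_root_.mul_one] at h
      rw [show Bialgebra.counitAlgHom K H (shift (WithConv.toConv g) a) = g a from h]
    rw [hk]
    exact (Ideal.map_comap_of_surjective (shiftEquiv (WithConv.toConv g) : H ≃ₐ[K] H).toAlgHom
      (shiftEquiv (WithConv.toConv g)).surjective _).symm
  simp [heq, Nat.card_eq_fintype_card]

open GrothLib.Hopf.HeightOne in
/-- Independent tangent vectors at the identity bound the number of points. -/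
theorem card_mul_pow_le (p : ℕ) [Fact p.Prime] [CharP K p] {g : ℕ}
    (D : H →ₐ[K] TrivSqZeroExt K (Fin g → K)) (hD0 : ∀ a, (D a).fst = Bialgebra.counitAlgHom K H a)
    (hD : ∀ φ : (Fin g → K) →ₗ[K] K, (∀ a, φ (D a).snd = 0) → φ = 0) :
    Nat.card (H →ₐ[K] K) * p ^ g ≤ Module.finrank K H := by
  haveI : IsNoetherianRing H := isNoetherian_of_tower K inferInstance
  set ε := Bialgebra.counitAlgHom K H
  haveI := HopfAG.isHopfIdeal_frobIdeal (k := K) p H
  set J := HopfAG.frobIdeal (k := K) p H
  obtain ⟨e⟩ := HopfAG.nonempty_algEquiv_frobKernel (k := K) p H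
  set c := Module.finrank K (RingHom.ker ε).Cotangent
  haveI : Module.Finite K (H ⧸ J) := Module.Finite.of_surjective (Ideal.Quotient.mkₐ K J).toLinearMap
    (Ideal.Quotient.mkₐ_surjective K J)
  haveI : Module.Finite K (RingHom.ker ε).Cotangent := Module.Finite.of_surjective
    (((RingHom.ker ε).toCotangent).restrictScalars K) (Ideal.toCotangent_surjective _)
  -- `g` is at most the dimension of the cotangent space
  have hgc : g ≤ c := by
    let ψ : (RingHom.ker ε).restrictScalars K →ₗ[K] (Fin g → K) :=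
      { toFun := fun a => (D a.1).snd
        map_add' := fun a b => by simp
        map_smul' := fun r a => by simp }
    have h0 : ∀ a : (RingHom.ker ε).restrictScalars K, a.1 ∈ RingHom.ker ε ^ 2 → ψ a = 0 := by
      intro a ha
      show (D a.1).snd = 0
      generalize a.1 = a at ha ⊢
      rw [pow_two] at ha
      refine Submodule.mul_induction_on ha (fun x hx y hy => ?_) fun x y hx hy => by simp [hx, hy]
      have hx0 : (D x).fst = 0 := (hD0 x).trans hx
      have hy0 : (D y).fst = 0 := (hD0 y).trans hy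
      simp [hx0, hy0]
    let T : (RingHom.ker ε).restrictScalars K →ₗ[K] (RingHom.ker ε).Cotangent :=
      ((RingHom.ker ε).toCotangent).restrictScalars K
    have hT : Function.Surjective T := Ideal.toCotangent_surjective _
    have hle : LinearMap.ker T ≤ LinearMap.ker ψ := fun a ha =>
      h0 a ((Ideal.toCotangent_eq_zero _ _).1 ha)
    have hψ : Function.Surjective ψ := by
      rw [← LinearMap.range_eq_top]
      by_contra hne
      obtain ⟨φ, hφ0, hφ⟩ := Submodule.exists_le_ker_of_lt_top (LinearMap.range ψ) (lt_top_iff_ne_top.2 hne)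
      refine hφ0 (hD φ fun a => ?_)
      have hmem : a - algebraMap K H (ε a) ∈ (RingHom.ker ε).restrictScalars K := by simp
      have h := hφ ⟨⟨_, hmem⟩, rfl⟩
      rw [LinearMap.mem_ker] at h
      simpa [ψ, TrivSqZeroExt.algebraMap_eq_inl] using h
    have hψ' : Function.Surjective ((LinearMap.ker T).liftQ ψ hle) := fun y => by
      obtain ⟨a, rfl⟩ := hψ y
      exact ⟨Submodule.Quotient.mk a, rfl⟩
    have h1 := LinearMap.finrank_le_finrank_of_surjective
      (f := ((LinearMap.ker T).liftQ ψ hle).comp (T.quotKerEquivOfSurjective hT).symm.toLinearMap)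
      (hψ'.comp (T.quotKerEquivOfSurjective hT).symm.surjective)
    simpa using h1
  have hB : Module.finrank K (H ⧸ J) = p ^ c := by
    have h1 : ∀ a : H ⧸ J, Bialgebra.counitAlgHom K (H ⧸ J) a = 0 → a ^ p = 0 := fun a ha => by
      obtain ⟨b, rfl⟩ := Ideal.Quotient.mk_surjective a
      rw [← map_pow, Ideal.Quotient.eq_zero_iff_mem]
      exact Ideal.subset_span ⟨b, ha, rfl⟩
    rw [(HopfAG.nonempty_algEquiv_trunc K p (A := H ⧸ J) h1).2,
      HopfAG.finrank_cotangent_of_algEquiv _ (Fact.out : p.Prime).two_le e]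
  -- the local piece maps onto the Frobenius kernel
  obtain ⟨N, hN⟩ := IsNoetherianRing.isNilpotent_nilradical H
  have hM : ∃ M, aug K H ^ M ≤ J := by
    refine Ideal.exists_pow_le_of_le_radical_of_fg (fun a ha => ⟨p, Ideal.subset_span ⟨a, ha, rfl⟩⟩)
      (IsNoetherian.noetherian _)
  obtain ⟨M, hM⟩ := hM
  have hle : aug K H ^ (N + M) ≤ J := (Ideal.pow_le_pow_right (Nat.le_add_left M N)).trans hM
  have hNM : nilradical H ^ (N + M) = ⊥ := by
    rw [pow_add]
    exact eq_bot_iff.2 ((Ideal.mul_mono_left hN.le).trans (by simp))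
  rw [finrank_eq_card_mul hNM]
  refine Nat.mul_le_mul_left _ ((Nat.pow_le_pow_right (Fact.out : p.Prime).pos hgc).trans ?_)
  rw [← hB]
  exact LinearMap.finrank_le_finrank_of_surjective (f := (Ideal.Quotient.factorₐ K hle).toLinearMap)
    (Ideal.Quotient.factor_surjective hle)

end Hopf

section Tangent

open GrothLib.AbMul

variable {K : Type u} [Field K]

/-- Independent tangent vectors at a rational point of a regular scheme. -/
theorem exists_tangentHom {O : Type u} [CommRing O] [IsLocalRing O] [IsNoetherianRing O] (s : K →+* O) (ε : O →+* K)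
    (hs : ∀ x, ε (s x) = x) (g : ℕ) (hg : (maximalIdeal O).spanFinrank = g) :
    ∃ D : O →+* TrivSqZeroExt K (Fin g → K), IsLocalHom D ∧ (∀ a, (D a).fst = ε a) ∧
      (∀ x, D (s x) = TrivSqZeroExt.inl x) ∧
      ∀ φ : (Fin g → K) →ₗ[K] K, (∀ a, φ (D a).snd = 0) → φ = 0 := by
  have hsurj : Function.Surjective ε := fun x => ⟨_, hs x⟩
  have hker : RingHom.ker ε = maximalIdeal O :=
    IsLocalRing.eq_maximalIdeal (RingHom.ker_isMaximal_of_surjective ε hsurj)
  letI : Algebra K O := s.toAlgebra
  -- the residue field is `K`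
  have hres : Function.Bijective (algebraMap K (ResidueField O)) := by
    refine ⟨RingHom.injective _, fun r => ?_⟩
    obtain ⟨a, rfl⟩ := IsLocalRing.residue_surjective r
    refine ⟨ε a, ?_⟩
    show IsLocalRing.residue O (s (ε a)) = IsLocalRing.residue O a
    rw [← sub_eq_zero, ← map_sub, IsLocalRing.residue_eq_zero_iff, ← hker, RingHom.mem_ker, map_sub, hs, sub_self]
  rw [spanFinrank_maximalIdeal_eq_finrank_cotangentSpace] at hg
  let eR := RingEquiv.ofBijective _ hres
  haveI : Module.Finite K (ResidueField O) :=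
    Module.Finite.of_surjective (Algebra.linearMap K (ResidueField O)) hres.2
  haveI : IsScalarTower K (ResidueField O) (CotangentSpace O) := IsScalarTower.of_algebraMap_smul fun r z => by
    rw [IsScalarTower.algebraMap_apply K O (ResidueField O), IsScalarTower.algebraMap_smul,
      IsScalarTower.algebraMap_smul]
  haveI : Module.Finite K (CotangentSpace O) := Module.Finite.trans (ResidueField O) _
  have h1 : Module.finrank K (CotangentSpace O) = g := by
    rw [← Module.finrank_mul_finrank K (ResidueField O) (CotangentSpace O), hg,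
      ← (LinearEquiv.ofBijective (Algebra.linearMap K (ResidueField O)) hres).finrank_eq, Module.finrank_self,
      _root_.one_mul]
  let b : CotangentSpace O ≃ₗ[K] (Fin g → K) := (Module.finBasisOfFinrankEq K _ h1).equivFun
  have hm : ∀ a, a - s (ε a) ∈ maximalIdeal O := fun a => by
    rw [← hker, RingHom.mem_ker, map_sub, hs, sub_self]
  let d : O → Fin g → K := fun a => b ((maximalIdeal O).toCotangent ⟨_, hm a⟩)
  have hadd : ∀ a a', d (a + a') = d a + d a' := fun a a' => by
    simp only [d]
    rw [← map_add b, ← map_add]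
    congr 2
    refine Subtype.ext ?_
    simp only [Submodule.coe_add, map_add]
    abel
  have hd0 : ∀ x, d (s x) = 0 := fun x => by
    simp only [d]
    rw [show (⟨_, hm (s x)⟩ : maximalIdeal O) = 0 from Subtype.ext (by simp [hs]), map_zero, map_zero]
  have hmul : ∀ a a', d (a * a') = ε a • d a' + ε a' • d a := fun a a' => by
    simp only [d]
    rw [← map_smul b, ← map_smul b, ← map_add b]
    congr 1
    rw [← IsScalarTower.algebraMap_smul O (ε a), ← IsScalarTower.algebraMap_smul O (ε a'), ← map_smul, ← map_smul,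
      ← map_add, Ideal.toCotangent_eq, pow_two]
    have h := Ideal.mul_mem_mul (hm a) (hm a')
    convert h using 1
    simp only [Submodule.coe_add, Submodule.coe_smul, smul_eq_mul, map_mul,
      show ∀ x, algebraMap K O x = s x from fun _ => rfl]
    ring
  let D : O →+* TrivSqZeroExt K (Fin g → K) :=
    { toFun := fun a => TrivSqZeroExt.inl (ε a) + TrivSqZeroExt.inr (d a)
      map_one' := by
        refine TrivSqZeroExt.ext (by simp) ?_
        have := hd0 1
        rw [map_one] at this
        simp [this]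
      map_mul' := fun a a' => TrivSqZeroExt.ext (by simp) (by simp [hmul])
      map_zero' := by
        refine TrivSqZeroExt.ext (by simp) ?_
        have := hd0 0
        rw [map_zero] at this
        simp [this]
      map_add' := fun a a' => TrivSqZeroExt.ext (by simp) (by simp [hadd]) }
  refine ⟨D, ⟨fun a ha => ?_⟩, fun a => by simp [D], fun x => TrivSqZeroExt.ext (by simp [D, hs]) (by simp [D, hd0]),
    fun φ hφ => ?_⟩
  · rw [TrivSqZeroExt.isUnit_iff_isUnit_fst] at ha
    by_contra hna
    have : a ∈ RingHom.ker ε := hker ▸ hna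
    exact ha.ne_zero (by simpa [D] using this)
  · refine LinearMap.ext fun v => ?_
    obtain ⟨z, rfl⟩ := b.surjective v
    obtain ⟨⟨a, ha⟩, rfl⟩ := Ideal.toCotangent_surjective _ z
    have h := hφ a
    have hea : ε a = 0 := by rwa [← RingHom.mem_ker, hker]
    simpa [D, d, hea] using h

variable [IsAlgClosed K] {A : Over (Spec (CommRingCat.of K))} [GrpObj A] [IsCommMonObj A] [IsProper A.hom]
  [GeometricallyIntegral A.hom]

/-- The points killed by the characteristic are at most `p ^ g`. -/
theorem card_ker_pow_char_le {g : ℕ} (hA : topologicalKrullDim A.left = (g : WithBot ℕ∞)) (p : ℕ) [Fact p.Prime]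
    [CharP K p] [IsFinite ((𝟙 A : A ⟶ A) ^ p).left] [Flat ((𝟙 A : A ⟶ A) ^ p).left]
    [LocallyOfFinitePresentation ((𝟙 A : A ⟶ A) ^ p).left] :
    Nat.card {a : Over.mk (𝟙 (Spec (CommRingCat.of K))) ⟶ A // a ≫ (𝟙 A : A ⟶ A) ^ p = 1} * p ^ g ≤
      Scheme.Hom.finrank ((𝟙 A : A ⟶ A) ^ p).left (η[A].left (closedPoint K)) := by
  haveI := GrothLib.Cube.smooth_abVar A
  haveI : IsMonHom ((𝟙 A : A ⟶ A) ^ p) := GrpDeligne.isMonHom_pow _ p
  set f := (𝟙 A : A ⟶ A) ^ p with hf
  -- the kernel as an affine group
  let N : Over (Spec (CommRingCat.of K)) := pullback f η[A]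
  let i : N ⟶ A := pullback.fst f η[A]
  have hi : AlgGrp.IsKernel i f := by
    have := IsPullback.of_hasPullback f η[A]
    rwa [toUnit_unique (pullback.snd f η[A]) (toUnit _)] at this
  obtain ⟨_, hmon⟩ := GrpDeligne.exists_grpObj_kernel f i hi
  haveI := GrpDeligne.mono_of_isKernel hi
  have hpb : IsPullback i.left N.hom f.left η[A].left := hi.map (Over.forget _)
  haveI : IsFinite N.hom := MorphismProperty.of_isPullback hpb ‹_›
  have haff : IsAffine N.left := isAffine_of_isAffineHom N.hom
  obtain ⟨H', ⟨e⟩⟩ := (essImage_hopfSpec (R := CommRingCat.of K) (G := Grp.mk N)).2 haff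
  obtain ⟨H, rfl⟩ : ∃ H, Opposite.op H = H' := ⟨H'.unop, rfl⟩
  let P : Over (Spec (CommRingCat.of K)) :=
    (Spec (CommRingCat.of (H : Type u))).asOver (Spec (CommRingCat.of K))
  let ι' : P ≅ N := (Grp.forget _).mapIso e
  haveI : IsMonHom ι'.hom := e.hom.hom.isMonHom_hom
  haveI : IsFinite (Spec.map (CommRingCat.ofHom (algebraMap K H))) := by
    have : IsFinite P.hom := by rw [← Over.w ι'.hom]; infer_instance
    exact this
  haveI : Module.Finite K H := RingHom.finite_algebraMap.1 ((IsFinite.SpecMap_iff _).1 ‹_›)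
  have hrk : Scheme.Hom.finrank f.left (η[A].left (closedPoint K)) = Module.finrank K (H : Type u) := by
    have h1 := Scheme.Hom.finrank_of_isPullback _ _ _ _ hpb (closedPoint K)
    refine h1.symm.trans ?_
    rw [← Scheme.Hom.finrank_comp_left_of_isIso ι'.hom.left N.hom, Over.w ι'.hom]
    show Scheme.Hom.finrank (Spec.map (CommRingCat.ofHom (algebraMap K H))) (closedPoint K) = _
    rw [Scheme.Hom.finrank_SpecMap_algebraMap, Module.rankAtStalk_eq_finrank_of_free]
    rfl
  have hcard : Nat.card {a : Over.mk (𝟙 (Spec (CommRingCat.of K))) ⟶ A // a ≫ f = 1} =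
      Nat.card ((H : Type u) →ₐ[K] K) := by
    refine Nat.card_congr (Equiv.symm ((algHomEquivPts (K := K) (H : Type u)).trans
      (Equiv.ofBijective (fun b => (⟨b ≫ ι'.hom ≫ i, by
          rw [Category.assoc, Category.assoc, GrpDeligne.ker_comp_eq_one hi, MonObj.comp_one, MonObj.comp_one]⟩ :
          {a : Over.mk (𝟙 (Spec (CommRingCat.of K))) ⟶ A // a ≫ f = 1}))
        ⟨fun b c h => (cancel_mono (ι'.hom ≫ i)).1 (congrArg Subtype.val h), fun a => ?_⟩)))
    obtain ⟨b, hb⟩ := GrpDeligne.exists_lift_ker hi a.1 a.2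
    exact ⟨b ≫ ι'.inv, Subtype.ext (by simp [hb])⟩
  -- the universal tangent vector at the unit
  let O := A.left.presheaf.stalk (unitPt A)
  have hcl : IsClosed ({unitPt A} : Set A.left) := by
    haveI : IsClosedImmersion η[A].left := by
      haveI : IsClosedImmersion (η[A].left ≫ A.hom) := by
        have h : η[A].left ≫ A.hom = 𝟙 (Spec (CommRingCat.of K)) := Over.w η[A]
        rw [h]; exact MorphismProperty.id_mem @IsClosedImmersion _
      exact IsClosedImmersion.of_comp η[A].left A.hom
    have h : ({unitPt A} : Set A.left) = Set.range η[A].left := by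
      refine Set.Subset.antisymm (fun x hx => ⟨closedPoint K, hx.symm⟩) ?_
      rintro _ ⟨y, rfl⟩
      exact congrArg η[A].left (Subsingleton.elim (α := ↥(Spec (CommRingCat.of K))) _ _)
    rw [h]
    exact η[A].left.isClosedEmbedding.isClosed_range
  haveI : IsRegularLocalRing O := GrpSchField.isRegularLocalRing_stalk_of_smooth A.hom hcl
  haveI : IsIntegral A.left := GeometricallyIntegral.isIntegral_of_subsingleton A.hom
  have hdim : (maximalIdeal O).spanFinrank = g := by
    have h := GrpSchField.ringKrullDim_stalk_eq_of_isClosed A.hom (C := Set.univ) isClosed_univ isOpen_univ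
      (IrreducibleSpace.isIrreducible_univ _) (Set.mem_univ _) hcl
    rw [IsHomeomorph.topologicalKrullDim_eq _ (Homeomorph.Set.univ A.left).isHomeomorph, hA,
      ← IsRegularLocalRing.spanFinrank_maximalIdeal] at h
    exact_mod_cast h
  let εO : O ⟶ CommRingCat.of K := Scheme.stalkClosedPointTo η[A].left
  have hεO : stalkBase A.hom _ ≫ εO = 𝟙 _ := Spec.map_injective (by
    rw [Spec.map_comp, Spec.map_id, stalkBase, Spec.map_preimage, ← Category.assoc]
    exact (congrArg (fun q => q ≫ A.hom) (Scheme.Spec_stalkClosedPointTo_fromSpecStalk η[A].left)).trans (Over.w η[A]))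
  obtain ⟨D, hDl, hDfst, hDs, hD⟩ := exists_tangentHom (O := O) (stalkBase A.hom _).hom εO.hom
    (fun x => DFunLike.congr_fun (congrArg CommRingCat.Hom.hom hεO) x) g hdim
  let W : Type u := Fin g → K
  let j : Spec (CommRingCat.of K) ⟶ Spec (CommRingCat.of K) := 𝟙 _
  let cl : dual K W ⟶ A.left := Spec.map (CommRingCat.ofHom D) ≫ A.left.fromSpecStalk (unitPt A)
  have hcl' : cl ≫ A.hom = dualHom K W ≫ j := by
    rw [Category.assoc, ← Spec.map_preimage (A.left.fromSpecStalk (unitPt A) ≫ A.hom), ← Spec.map_comp]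
    refine Eq.trans ?_ (Category.comp_id _).symm
    exact congrArg Spec.map (CommRingCat.hom_ext (RingHom.ext hDs))
  let c : dualOver j W ⟶ A := Over.homMk cl hcl'
  have hc : overPt j ≫ c = 1 := Over.OverMorphism.ext (by
    show dualPt K W ≫ cl = j ≫ η[A].left
    rw [Category.id_comp, ← Category.assoc, ← Spec.map_comp]
    conv_rhs => rw [← Scheme.Spec_stalkClosedPointTo_fromSpecStalk η[A].left]
    congr 1
    exact congrArg Spec.map (CommRingCat.hom_ext (RingHom.ext hDfst)))
  have hcp : c ≫ f = 1 := by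
    rw [hf, MonObj.comp_pow, Category.comp_id, ← zpow_natCast]
    exact zpow_eq_one_of_cast_eq_zero j c hc (p : ℤ) (by rw [Int.cast_natCast]; exact CharP.cast_eq_zero K p)
  obtain ⟨c₀, hc₀⟩ := GrpDeligne.exists_lift_ker hi c hcp
  let c' : dualOver j W ⟶ P := c₀ ≫ ι'.inv
  have hc' : c' ≫ ι'.hom ≫ i = c := by simp [c', hc₀]
  let t : dual K W ⟶ Spec (CommRingCat.of (H : Type u)) := c'.left
  let D' : (H : Type u) →ₐ[K] TrivSqZeroExt K W :=
    { (Spec.preimage t).hom with
      commutes' := fun r => by
        have h : t ≫ Spec.map (CommRingCat.ofHom (algebraMap K H)) = dualHom K W ≫ j := Over.w c'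
        rw [← Spec.map_preimage t, ← Spec.map_comp, Category.comp_id] at h
        exact DFunLike.congr_fun (congrArg CommRingCat.Hom.hom (Spec.map_injective h)) r }
  have ht : Spec.map (CommRingCat.ofHom D'.toRingHom) = t := Spec.map_preimage t
  have hone : overPt j ≫ c' = 1 := by
    rw [← cancel_mono (ι'.hom ≫ i), Category.assoc, hc', hc, MonObj.one_comp]
  have hfst : ∀ a, (D' a).fst = Bialgebra.counitAlgHom K (H : Type u) a := by
    have h : dualPt K W ≫ t = Spec.map (CommRingCat.ofHom (Bialgebra.counitAlgHom K (H : Type u)).toRingHom) := by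
      refine (congrArg Over.Hom.left hone).trans ?_
      rw [Hom.one_def, Over.comp_left]
      exact Category.id_comp _
    rw [← ht, ← Spec.map_comp] at h
    exact fun a => DFunLike.congr_fun (congrArg CommRingCat.Hom.hom (Spec.map_injective h)) a
  refine (le_of_eq (congrArg (· * p ^ g) hcard)).trans ((card_mul_pow_le p D' hfst fun φ hφ => ?_).trans_eq hrk.symm)
  -- a functional killing the tangent vectors of the kernel kills all tangent vectors
  refine hD φ fun a => ?_
  let π : TrivSqZeroExt K W →+* TrivSqZeroExt K K := (TrivSqZeroExt.map φ).toRingHom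
  let π₀ : TrivSqZeroExt K W →+* TrivSqZeroExt K K :=
    (TrivSqZeroExt.inlHom K K).comp (TrivSqZeroExt.fstHom K K W).toRingHom
  have hππ : π.comp D'.toRingHom = π₀.comp D'.toRingHom := RingHom.ext fun x => TrivSqZeroExt.ext
    (by simp only [π, π₀, RingHom.comp_apply, AlgHom.toRingHom_eq_coe, RingHom.coe_coe]; exact TrivSqZeroExt.fst_map φ _)
    (by simp only [π, π₀, RingHom.comp_apply, AlgHom.toRingHom_eq_coe, RingHom.coe_coe]; exact (TrivSqZeroExt.snd_map φ _).trans (hφ x))
  have h1 : Spec.map (CommRingCat.ofHom π) ≫ cl = Spec.map (CommRingCat.ofHom π₀) ≫ cl := by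
    have h : cl = t ≫ (ι'.hom ≫ i).left := (congrArg Over.Hom.left hc').symm
    rw [h, ← ht, ← Category.assoc, ← Spec.map_comp, ← Category.assoc, ← Spec.map_comp]
    congr 2
    exact CommRingCat.hom_ext hππ
  simp only [cl, ← Category.assoc, ← Spec.map_comp] at h1
  rw [cancel_mono] at h1
  have h2 := congrArg TrivSqZeroExt.snd (DFunLike.congr_fun (congrArg CommRingCat.Hom.hom (Spec.map_injective h1)) a)
  exact (TrivSqZeroExt.snd_map φ _).symm.trans h2

end Tangent

end GrothLib.DegPoly
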